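import Cfsg.Agent.H500.SN.UFourSp

/-!
# S3831: `R69 (PSU 4 F 3)` (helper500)

* `semi_fam` : the vectors of the semilinear case (helper189's construction);
* `six_four`, `r69_psu_four` : **the row.**
-/

set_option autoImplicit false
set_option linter.unusedSectionVars false

namespace Cfsg.Agent.H500.SN

open Matrix Subgroup Module Cfsg Cfsg.Agent.H459.Rad Cfsg.Agent.H21.SN
open Cfsg.Agent.LieClassical.HermBasic Cfsg.Agent.LieClassical.HermSiegel
open Cfsg.Agent.ClassicalGeometry.PSUAutBasic Cfsg.Agent.ClassicalGeometry.HermOrtho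
open Cfsg.Agent.ClassicalGeometry.PSUAutCount (toAut gm gm_mul gm_one gm_mul_inv gm_inv_mul semiConj guConj act_guConj
  herm_gm gm_inv_mulVec gm_mulVec_inv herm_map gm_inj act_semiConj herm_semi eq_of_toAut_eq)
open Cfsg.Agent.H189.SN (sm sm_def sm_one sm_add sm_smul sm_zero sm_sub sm_sum herm_sm sm_surjective sm_injective act_semi
  pow_eq_one_iff TV TV.fix TV.fixw TV.cube exists_vec_perp aut_cases pow_nine)

variable {F : Type} [Field F] [Fintype F] {n : ℕ}

/-- the vectors of the semilinear case -/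
theorem semi_fam (hF : Fintype.card F = 3 ^ 2) (hn : 4 ≤ n) {U T : GU n F 3} {ρ : F ≃+* F} (hρ : ρ = conj hF)
    (hT2 : ∀ v, sm T ρ (sm T ρ v) = (-1 : F) • v) {w : Fin n → F} {μ : F} (hU : TV U w μ) {a : F} (ha0 : a ≠ 0)
    (ha : sm T ρ w = a • w) (ha4 : a ^ 4 = -1) :
    ∃ w' v1 v2 : Fin n → F, sm T ρ w' = a • w' ∧ sm T ρ v1 = a • v1 ∧ sm T ρ v2 = a • v2 ∧
      hermForm n F 3 w' w = -μ ∧ hermForm n F 3 v2 v1 = -μ ∧ hermForm n F 3 v1 w = 0 ∧ hermForm n F 3 v1 w' = 0 ∧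
      hermForm n F 3 v2 w = 0 ∧ hermForm n F 3 v2 w' = 0 ∧ hermForm n F 3 w' w' = 0 ∧ hermForm n F 3 v1 v1 = 0 ∧
      hermForm n F 3 v2 v2 = 0 := by
  have h2 := Cfsg.Agent.H189.SN.two_ne hF
  have hρx : ∀ x : F, ρ x = x ^ 3 := fun x => by rw [hρ, conj_apply]
  have hρ1 : ρ ≠ 1 := by
    intro h
    obtain ⟨x, hx⟩ := exists_not_fixed hF
    apply hx
    rw [← hρx, h]
    rfl
  have hai : a⁻¹ * a = 1 := inv_mul_cancel₀ ha0
  have hH : ∀ u v : Fin n → F, hermForm n F 3 (sm T ρ u) (sm T ρ v) = hermForm n F 3 u v ^ 3 := fun u v => by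
    rw [herm_sm, hρx]
  have hs : ∀ (e : F) (v : Fin n → F), sm T ρ (e • v) = e ^ 3 • sm T ρ v := fun e v => by rw [sm_smul, hρx]
  have ha4' : a * a ^ 3 = -1 := by linear_combination ha4
  -- the projection to the fixed space
  set pj : F → (Fin n → F) → (Fin n → F) := fun e z => e • z + (a⁻¹ * e ^ 3) • sm T ρ z with hpj
  have he9 : ∀ e : F, e ^ 9 = e := pow_nine hF
  have hTpj : ∀ e z, sm T ρ (pj e z) = a • pj e z := by
    intro e z
    simp only [hpj]
    rw [sm_add, hs, hs, hT2, smul_add, smul_smul, smul_smul, smul_smul, ← mul_assoc, mul_inv_cancel₀ ha0, one_mul,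
      add_comm]
    congr 2
    have h5 : (a⁻¹) ^ 3 = -a := by
      have h6 : (a⁻¹) ^ 3 * a ^ 3 = 1 := by rw [← mul_pow, hai, one_pow]
      linear_combination (-a) * h6 + (a⁻¹) ^ 3 * ha4'
    rw [mul_pow, h5, ← pow_mul]
    linear_combination a * he9 e
  have hpw : ∀ (x : Fin n → F), sm T ρ x = a • x → ∀ e z, hermForm n F 3 (pj e z) x =
      e * hermForm n F 3 z x - (e * hermForm n F 3 z x) ^ 3 := by
    intro x hx e z
    have h5 := hH z x
    rw [hx, herm_smul_right] at h5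
    simp only [hpj]
    rw [herm_add_left, herm_smul_left, herm_smul_left, mul_pow, ← h5]
    have h6 : a⁻¹ = -a ^ 3 := by
      linear_combination a⁻¹ * ha4' - a ^ 3 * hai
    rw [h6]
    ring
  obtain ⟨ζ, hζ⟩ := exists_not_fixed hF
  -- choice of a scalar
  have hsc : ∀ η : F, η ≠ 0 → ∃ e : F, e * η - (e * η) ^ 3 ≠ 0 := by
    intro η hη
    refine ⟨ζ / η, ?_⟩
    rw [div_mul_cancel₀ _ hη]
    intro h
    exact hζ (sub_eq_zero.1 h).symm
  -- the form on the fixed space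
  have hV0 : ∀ x y : Fin n → F, sm T ρ x = a • x → sm T ρ y = a • y → hermForm n F 3 y x = -hermForm n F 3 x y := by
    intro x y hx hy
    have h5 := hH x y
    rw [hx, hy, herm_smul_left, herm_smul_right, ← herm_swap hF] at h5
    linear_combination -h5 + hermForm n F 3 x y * ha4'
  have hV1 : ∀ x : Fin n → F, sm T ρ x = a • x → hermForm n F 3 x x = 0 := by
    intro x hx
    have h5 := hV0 x x hx hx
    rcases mul_eq_zero.1 (show 2 * hermForm n F 3 x x = 0 by linear_combination h5) with h | h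
    · exact absurd h h2
    · exact h
  -- `w'`
  obtain ⟨u, hu⟩ : ∃ u, hermForm n F 3 u w ≠ 0 := by
    obtain ⟨u, hu⟩ := exists_herm_ne_zero hF hU.ne
    exact ⟨u, fun h => hu (herm_eq_zero_swap hF h)⟩
  obtain ⟨e, he⟩ := hsc _ hu
  set w' := pj e u with hw'
  have hTw' : sm T ρ w' = a • w' := hTpj e u
  set ε := hermForm n F 3 w' w with hε
  have hε0 : ε ≠ 0 := by rw [hε, hpw w ha]; exact he
  have hww' : hermForm n F 3 w w' = -ε := hV0 w' w hTw' ha
  have hww := hU.iso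
  have hw'w' := hV1 w' hTw'
  -- `v1`
  obtain ⟨z, hz0, hz1, hz2⟩ := exists_vec_perp hF (by omega) w w'
  have hpP : ∀ (x : Fin n → F), sm T ρ x = a • x → ∀ z, hermForm n F 3 z x = 0 → ∀ e, hermForm n F 3 (pj e z) x = 0 := by
    intro x hx z hz e
    rw [hpw x hx, hz]
    ring
  obtain ⟨v1, hv10, hTv1, hv1w, hv1w'⟩ : ∃ v1, v1 ≠ 0 ∧ sm T ρ v1 = a • v1 ∧ hermForm n F 3 v1 w = 0 ∧
      hermForm n F 3 v1 w' = 0 := by
    by_cases h1 : pj 1 z = 0
    · refine ⟨pj ζ z, ?_, hTpj _ _, hpP w ha z hz1 _, hpP w' hTw' z hz2 _⟩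
      intro h3
      simp only [hpj] at h1 h3
      rw [one_smul, one_pow, mul_one] at h1
      have h5 : (ζ - ζ ^ 3) • z = 0 := by
        have h6 : a⁻¹ • sm T ρ z = -z := by rw [eq_neg_iff_add_eq_zero, add_comm]; exact h1
        rw [sub_smul, ← h3, mul_comm, ← smul_smul, h6, smul_neg]
        abel
      rcases smul_eq_zero.1 h5 with h6 | h6
      · exact hζ (sub_eq_zero.1 h6).symm
      · exact hz0 h6
    · exact ⟨pj 1 z, h1, hTpj _ _, hpP w ha z hz1 _, hpP w' hTw' z hz2 _⟩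
  -- `v2`
  obtain ⟨x, hx1⟩ : ∃ x, hermForm n F 3 x v1 ≠ 0 := by
    obtain ⟨u, hu⟩ := exists_herm_ne_zero hF hv10
    exact ⟨u, fun h => hu (herm_eq_zero_swap hF h)⟩
  have q1 := herm_eq_zero_swap hF hv1w
  have q2 := herm_eq_zero_swap hF hv1w'
  set z2 := x - (-(hermForm n F 3 x w' / ε)) • w - (hermForm n F 3 x w / ε) • w' with hz2'
  have z2w : hermForm n F 3 z2 w = 0 := by
    rw [hz2', herm_sub_left, herm_sub_left, herm_smul_left, herm_smul_left, hww, ← hε, div_mul_cancel₀ _ hε0]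
    ring
  have z2w' : hermForm n F 3 z2 w' = 0 := by
    rw [hz2', herm_sub_left, herm_sub_left, herm_smul_left, herm_smul_left, hww', hw'w', neg_mul_neg,
      div_mul_cancel₀ _ hε0]
    ring
  have z2v : hermForm n F 3 z2 v1 ≠ 0 := by
    rw [hz2', herm_sub_left, herm_sub_left, herm_smul_left, herm_smul_left, q1, q2, mul_zero, mul_zero, sub_zero,
      sub_zero]
    exact hx1
  obtain ⟨e2, he2⟩ := hsc _ z2v
  set v2 := pj e2 z2 with hv2
  have hTv2 : sm T ρ v2 = a • v2 := hTpj _ _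
  have hv2w : hermForm n F 3 v2 w = 0 := hpP w ha z2 z2w _
  have hv2w' : hermForm n F 3 v2 w' = 0 := hpP w' hTw' z2 z2w' _
  have q3 := herm_eq_zero_swap hF hv2w
  have q4 := herm_eq_zero_swap hF hv2w'
  set ε2 := hermForm n F 3 v2 v1 with hε2
  have hε20 : ε2 ≠ 0 := by rw [hε2, hpw v1 hTv1]; exact he2
  have hv12 : hermForm n F 3 v1 v2 = -ε2 := hV0 v2 v1 hTv2 hTv1
  have hv11 := hV1 v1 hTv1
  have hv22 := hV1 v2 hTv2
  have hμ3 : μ ^ 3 = -μ := by linear_combination hU.tr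
  have hε3 : ε ^ 3 = -ε := by
    have h5 := herm_swap hF w' w
    rw [hww', ← hε] at h5
    exact h5.symm
  have hε23 : ε2 ^ 3 = -ε2 := by
    have h5 := herm_swap hF v2 v1
    rw [hv12, ← hε2] at h5
    exact h5.symm
  have ht : (-μ / ε) ^ 3 = -μ / ε := by
    have h5 : (-μ / ε) ^ 3 = -(μ ^ 3) / ε ^ 3 := by rw [div_pow]; ring
    rw [h5, hμ3, hε3, neg_neg, div_neg, neg_div]
  have ht2 : (-μ / ε2) ^ 3 = -μ / ε2 := by
    have h5 : (-μ / ε2) ^ 3 = -(μ ^ 3) / ε2 ^ 3 := by rw [div_pow]; ring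
    rw [h5, hμ3, hε23, neg_neg, div_neg, neg_div]
  refine ⟨(-μ / ε) • w', v1, (-μ / ε2) • v2, ?_, hTv1, ?_, ?_, ?_, hv1w, ?_, ?_, ?_, ?_, hv11, ?_⟩
  · rw [hs, hTw', ht, smul_smul, smul_smul, mul_comm]
  · rw [hs, hTv2, ht2, smul_smul, smul_smul, mul_comm]
  · rw [herm_smul_left, ← hε, div_mul_cancel₀ _ hε0]
  · rw [herm_smul_left, ← hε2, div_mul_cancel₀ _ hε20]
  · rw [herm_smul_right, hv1w', mul_zero]
  · rw [herm_smul_left, hv2w, mul_zero]
  · rw [herm_smul_left, herm_smul_right, hv2w', mul_zero, mul_zero]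
  · rw [herm_smul_left, herm_smul_right, hw'w', mul_zero, mul_zero]
  · rw [herm_smul_left, herm_smul_right, hv22, mul_zero, mul_zero]

/-- **order six** -/
theorem six_four (hC : Core3) (hL : LrU 3) (hF : Fintype.card F = 3 ^ 2) {x : MulAut (PSU 4 F 3)} (hx : orderOf x = 6)
    (hps : PS 2 x) (hrn : RN (x ^ 4)) : ∃ y : MulAut (PSU 3 F 3), orderOf y = 6 ∧ PS 2 y := by
  obtain ⟨C, U, T, ρ, c, w, μ, a, hxC, hT3, hC', hcom, hc0, hT2, hU, ha0, ha, ha4⟩ :=
    setup hC hL hF le_rfl hx hps hrn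
  have hx6 : x ^ 6 = 1 := orderOf_dvd_iff_pow_eq_one.1 (by rw [hx])
  have hμ3 : μ ^ 3 = -μ := by linear_combination hU.tr
  rcases aut_cases hF ρ with hρ | hρ
  · subst hρ
    have ha4' : a ^ 4 = 1 := by
      have h1 : a ^ 4 * μ = μ := ha4
      exact mul_right_cancel₀ hU.mu (by rw [h1, one_mul])
    refine lin_case4 hF le_rfl hC' hcom hc0 hT2 hU ha0 ha ha4' ?_ (hxC ▸ hx6) (hxC ▸ hps)
    by_contra hcon
    push Not at hcon
    have h1 : (toAut T 1 : MulAut (PSU 4 F 3)) ^ 1 = 1 :=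
      (pow_eq_one_iff hF (by omega) T 1 1).2 ⟨pow_one 1, a, hcon⟩
    rw [pow_one, ← hT3] at h1
    have h2 := orderOf_dvd_of_pow_eq_one h1
    rw [hx] at h2
    norm_num at h2
  · exfalso
    have hρx : ∀ x : F, ρ x = x ^ 3 := fun x => by rw [hρ, conj_apply]
    have ha4' : a ^ 4 = -1 := by
      rw [hρx, hμ3] at ha4
      apply mul_right_cancel₀ hU.mu
      linear_combination -ha4
    have hcm : c = -1 := by
      have h1 := hT2 w
      rw [ha, sm_smul, ha, smul_smul, hρx] at h1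
      have h2 : (a ^ 3 * a - c) • w = 0 := by rw [sub_smul, h1, sub_self]
      rcases smul_eq_zero.1 h2 with h6 | h6
      · linear_combination -h6 + ha4'
      · exact absurd h6 hU.ne
    subst hcm
    obtain ⟨w', v1, v2, t1, t2, t3, g3, g10, g4, g5, g6, g7, g2, g8, g9⟩ :=
      semi_fam hF le_rfl hρ hT2 hU ha0 ha ha4'
    subst hρ
    have hμ2 : μ ^ 2 = -1 := by
      apply mul_right_cancel₀ hU.mu
      linear_combination hμ3
    refine semi_four hF ha0 hμ2 hU.iso g2 g3 g4 g5 g6 g7 g8 g9 g10 ?_ ?_ ?_ ?_ (hxC ▸ hps)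
    · rw [hC', ha, mulVec_smul, hU.fixw]
    · rw [hC', t1, mulVec_smul, hU.eq, g3]
      congr 2
      rw [show μ * -μ = 1 by linear_combination -hμ2, one_smul]
    · rw [hC', t2, mulVec_smul, hU.fix g4]
    · rw [hC', t3, mulVec_smul, hU.fix g6]

theorem card_psu_four (hF : Fintype.card F = 3 ^ 2) : Nat.card (PSU 4 F 3) = 3265920 := by
  have h := Cfsg.Agent.H277.ClsPsu.card_psu (q := 3) (n := 4) (F := F) hF (by norm_num)
  have h1 : Even 0 := by decide
  have h2 : ¬ Even 1 := by decide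
  have h3 : Even 2 := by decide
  rw [show 4 - 1 = 3 by norm_num, Finset.prod_range_succ, Finset.prod_range_succ, Finset.prod_range_one, if_pos h1,
    if_neg h2, if_pos h3] at h
  norm_num at h
  omega

/-- **`R69` for `PSU₄(3)`** -/
theorem r69_psu_four_of (hC : Core3) (hL : LrU 3) (hF : Fintype.card F = 3 ^ 2) : R69 (PSU 4 F 3) := by
  rintro x (hx | hx) hps hR hI
  · have hrn : RN (x ^ 4) := hR 4 (by
      rw [← pow_mul]
      exact orderOf_dvd_iff_pow_eq_one.1 (by rw [hx]; norm_num))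
    obtain ⟨y, hy, hyP⟩ := six_four hC hL hF hx hps hrn
    have f3 : Finite (PSU 3 F 3) := Quotient.finite _
    have s3 := simple_psu hF (n := 3) le_rfl
    refine hI _ (not_comm_psu hF le_rfl) ?_ y (Or.inl hy) hyP
    rw [card_psu_four hF, Cfsg.Agent.H95.SN.card_psu (by rw [hF]; norm_num)]
    norm_num
  · exact no_nine hC hL hF (by norm_num) hx hps (hR 3 (by
      rw [← pow_mul]
      exact orderOf_dvd_iff_pow_eq_one.1 (by rw [hx])))

/-- **`LrU 4`** -/
theorem lrU_four (hC : Core3) (hL : LrU 3) : LrU 4 := lrU_of_three hC hL (by norm_num)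

/-- **the row `PSU₄(3)`** -/
theorem r69_psu_four {K : Type} [Group K] [Finite K] {F : Type} [Field F] [Fintype F] (hC : Core3) (hL : LrU 3)
    (hF : Fintype.card F = 3 ^ 2) (e : Nonempty (K ≃* PSU 4 F 3)) : R69 K := by
  obtain ⟨e⟩ := e
  have : Finite (PSU 4 F 3) := Quotient.finite _
  exact R69.congr e (r69_psu_four_of hC hL hF)

end Cfsg.Agent.H500.SN
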