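import Mathlib
import Cfsg.Agent.H21.SN.Tools
import Cfsg.Agent.H95.SN.Crit

/-!
# S3831: `PS` under correspondences, `L₂(9)` (helper500)

* `PS_corr` : `φ : P → K`, `f : P ↠ L` with `ker φ ≤ ker f`, compatible automorphisms: `PS k x → PS k y`;
* `PS_corr_conj` : the inner version;
* `no_psl_nine` : no automorphism of `L₂(9)` of order three has `PS 2`.
-/

set_option autoImplicit false
set_option linter.unusedSectionVars false

namespace Cfsg.Agent.H500.SN

open Cfsg Subgroup Cfsg.Agent.H459.Rad Cfsg.Agent.H21.SN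

/-- **correspondences** -/
theorem PS_corr {K L P : Type*} [Group K] [Finite K] [Group L] [Group P] {k : ℕ} {x : MulAut K} (h : PS k x)
    (φ : P →* K) (f : P →* L) (hf : Function.Surjective f) (hk : φ.ker ≤ f.ker) (y : MulAut L)
    (hxy : ∀ p, ∃ p', φ p' = x (φ p) ∧ f p' = y (f p)) : PS k y := by
  have hM : ∀ m ∈ φ.range, x m ∈ φ.range := by
    rintro _ ⟨p, rfl⟩
    obtain ⟨p', h1, -⟩ := hxy p
    exact ⟨p', h1⟩
  have hk' : φ.rangeRestrict.ker ≤ f.ker := by rwa [MonoidHom.ker_rangeRestrict]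
  let g : φ.range →* L := φ.rangeRestrict.liftOfSurjective φ.rangeRestrict_surjective ⟨f, hk'⟩
  have hg : ∀ p, g (φ.rangeRestrict p) = f p := fun p => MonoidHom.liftOfRightInverse_comp_apply _ _ _ _ _
  refine PS.sec h hM g ?_ y ?_
  · intro l
    obtain ⟨p, rfl⟩ := hf l
    exact ⟨_, hg p⟩
  · rintro ⟨_, p, rfl⟩
    obtain ⟨p', h1, h2⟩ := hxy p
    have e1 : (⟨x (φ p), hM _ ⟨p, rfl⟩⟩ : φ.range) = φ.rangeRestrict p' := Subtype.ext h1.symm
    have e2 : (⟨φ p, ⟨p, rfl⟩⟩ : φ.range) = φ.rangeRestrict p := rfl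
    change g ⟨x (φ p), _⟩ = y (g ⟨φ p, _⟩)
    rw [e1, e2, hg, hg, h2]

/-- **correspondences**, inner automorphisms -/
theorem PS_corr_conj {K L P : Type*} [Group K] [Finite K] [Group L] [Group P] {k : ℕ} (φ : P →* K) (f : P →* L)
    (hf : Function.Surjective f) (hk : φ.ker ≤ f.ker) (p₀ : P) (h : PS k (MulAut.conj (φ p₀))) :
    PS k (MulAut.conj (f p₀)) :=
  PS_corr h φ f hf hk _ fun p => ⟨p₀ * p * p₀⁻¹, by simp, by simp⟩

theorem conj_eq_one_iff' {K : Type*} [Group K] (hZ : center K = ⊥) {k : K} : MulAut.conj k = 1 ↔ k = 1 := by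
  constructor
  · intro h
    have h1 : k ∈ center K := by
      rw [mem_center_iff]
      intro l
      have h2 : MulAut.conj k l = l := by rw [h]; rfl
      rw [MulAut.conj_apply] at h2
      calc l * k = (k * l * k⁻¹) * k := by rw [h2]
        _ = k * l := by group
    rw [hZ] at h1
    exact mem_bot.1 h1
  · rintro rfl
    exact map_one _

theorem center_eq_bot {K : Type*} [Group K] [IsSimpleGroup K] (h : ¬ IsMulCommutative K) : center K = ⊥ := by
  rcases (inferInstance : (center K).Normal).eq_bot_or_eq_top with h1 | h1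
  · exact h1
  · exfalso
    apply h
    refine ⟨⟨fun a b => ?_⟩⟩
    have h2 : b ∈ center K := by rw [h1]; exact mem_top _
    exact mem_center_iff.1 h2 a

theorem not_comm_of_card {K : Type*} [Group K] [Finite K] [IsSimpleGroup K] (h : ¬ (Nat.card K).Prime) :
    ¬ IsMulCommutative K := by
  intro hc
  let _ : CommGroup K := { (inferInstance : Group K) with mul_comm := hc.is_comm.comm }
  exact h IsSimpleGroup.prime_card

section Nine

variable {F : Type} [Field F] [Fintype F]

theorem card_psl_nine (hF : Fintype.card F = 9) :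
    Nat.card (Matrix.ProjectiveSpecialLinearGroup (Fin 2) F) = 360 := by
  have h := Cfsg.Agent.H277.ClsPsl.card_psl hF (n := 2) le_rfl
  simp [Finset.prod_range_succ] at h
  omega

theorem simple_psl_nine (hF : Fintype.card F = 9) :
    IsSimpleGroup (Matrix.ProjectiveSpecialLinearGroup (Fin 2) F) :=
  Matrix.ProjectiveSpecialLinearGroup.rank_two_simple (by rw [Nat.card_eq_fintype_card, hF]; norm_num)

theorem not_comm_psl_nine (hF : Fintype.card F = 9) :
    ¬ IsMulCommutative (Matrix.ProjectiveSpecialLinearGroup (Fin 2) F) := by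
  have := simple_psl_nine hF
  apply not_comm_of_card
  rw [card_psl_nine hF]
  norm_num

theorem noS3_psl_nine (hF : Fintype.card F = 9) : NoS3 (Matrix.ProjectiveSpecialLinearGroup (Fin 2) F) := by
  have hfin : Finite (Matrix.ProjectiveSpecialLinearGroup (Fin 2) F) := inferInstance
  apply Cfsg.Agent.H95.SN.noS3_of_card <;> rw [card_psl_nine hF] <;> norm_num

/-- **`L₂(9)`** -/
theorem no_psl_nine (hC : Core3) (hF : Fintype.card F = 9)
    {y : MulAut (Matrix.ProjectiveSpecialLinearGroup (Fin 2) F)} (hy : orderOf y = 3) (hP : PS 2 y) : False := by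
  have hs := simple_psl_nine hF
  have hn := not_comm_psl_nine hF
  have h3 : y ^ 3 = 1 := by rw [← hy]; exact pow_orderOf_eq_one y
  exact g3_of_noS3 hn (noS3_psl_nine hF) y hy hP (rn_of_core hC (center_eq_bot hn) h3 hP)

/-- **`L₂(9)`**, inner automorphisms -/
theorem no_psl_nine_conj (hC : Core3) (hF : Fintype.card F = 9)
    {J : Matrix.SpecialLinearGroup (Fin 2) F} (h3 : J ^ 3 = 1) (h1 : J ∉ center (Matrix.SpecialLinearGroup (Fin 2) F))
    (hP : PS 2 (MulAut.conj (QuotientGroup.mk' (center (Matrix.SpecialLinearGroup (Fin 2) F)) J :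
      Matrix.ProjectiveSpecialLinearGroup (Fin 2) F))) : False := by
  have hs := simple_psl_nine hF
  have hn := not_comm_psl_nine hF
  refine no_psl_nine hC hF (orderOf_eq_prime ?_ ?_) hP
  · rw [← map_pow, ← map_pow, h3, map_one, map_one]
  · rw [Ne, conj_eq_one_iff' (center_eq_bot hn)]
    intro h
    exact h1 ((QuotientGroup.eq_one_iff J).1 h)

end Nine

end Cfsg.Agent.H500.SN
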