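import Cfsg.Agent.H500.SN.Corr
import Cfsg.Agent.H189.SN.Sec
import Cfsg.Agent.H154.SN.Sub
import Cfsg.Agent.H262.Pair
import Cfsg.Agent.H201.PsuGraph

/-!
# S3831, `U_n(3)`: unipotent elements (helper500)

* `dl a x = a x - x`;
* `exists_su` : automorphisms `x` with `x ^ 9 = 1` are induced by unipotent elements of `SU`;
* `no_J` : no element acting as a transvection on a totally isotropic plane has `PS 2`;
* `no_J3`.
-/

set_option autoImplicit false
set_option linter.unusedSectionVars false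

open scoped commutatorElement

namespace Cfsg.Agent.H500.SN

open Matrix Subgroup Module Cfsg Cfsg.Agent.H459.Rad Cfsg.Agent.H21.SN
open Cfsg.Agent.LieClassical.HermBasic Cfsg.Agent.LieClassical.HermSiegel
open Cfsg.Agent.ClassicalGeometry.PSUAutBasic Cfsg.Agent.ClassicalGeometry.HermOrtho
open Cfsg.Agent.ClassicalGeometry.PSUAutCount (toAut gm gm_mul gm_one gm_mul_inv gm_inv_mul semiConj guConj act_guConj
  herm_gm gm_inv_mulVec gm_mulVec_inv herm_map gm_inj act_semiConj herm_semi eq_of_toAut_eq)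
open Cfsg.Agent.Schreier.PSU (f₁ f₁_eq_conj)
open Cfsg.Agent.H189.SN (sm sm_def sm_one sm_add sm_smul sm_zero sm_sub herm_sm sm_surjective sm_injective act_semi
  toAut_pr_eq pow_eq_one_iff gm_pow' gm_ext)

variable {F : Type} [Field F] [Fintype F] {q n : ℕ}

/-! ### the field -/

theorem char_three (hF : Fintype.card F = 3 ^ 2) : CharP F 3 := by
  obtain ⟨p, k, hp, hc, hk, -⟩ := exists_prime_pow hF
  have : p = 3 := by
    have h1 : p ∣ 3 := by
      rw [hk]
      refine dvd_pow_self p ?_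
      rintro rfl
      rw [pow_zero] at hk
      omega
    exact (Nat.prime_dvd_prime_iff_eq hp Nat.prime_three).1 h1
  rwa [this] at hc

theorem three_eq (hF : Fintype.card F = 3 ^ 2) : (3 : F) = 0 := by
  have := char_three hF
  exact_mod_cast CharP.cast_eq_zero F 3

theorem two_ne (hF : Fintype.card F = 3 ^ 2) : (2 : F) ≠ 0 := by
  intro h
  have h1 := three_eq hF
  apply one_ne_zero (α := F)
  linear_combination h1 - h

theorem ringAut_sq (hF : Fintype.card F = 3 ^ 2) (ρ : F ≃+* F) : ρ ^ 2 = 1 := by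
  have := Fact.mk Nat.prime_three
  have h1 : Nat.card (F ≃+* F) = 2 := Cfsg.Agent.Lib.FieldAutCard.card_ringAut (p := 3) (by norm_num) hF
  have hf : Finite (F ≃+* F) := Nat.finite_of_card_ne_zero (by rw [h1]; norm_num)
  rw [← h1]
  exact pow_card_eq_one'

theorem ringAut_cases (hF : Fintype.card F = 3 ^ 2) (ρ : F ≃+* F) : ρ = 1 ∨ ρ = conj hF := by
  rcases eq_or_ne ρ 1 with h | h
  · exact Or.inl h
  · exact Or.inr (Cfsg.Agent.H201.PsuGraph.eq_conj hF (orderOf_eq_prime (ringAut_sq hF ρ) h))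

theorem conj_conj (hF : Fintype.card F = 3 ^ 2) (c : F) : (c ^ 3) ^ 3 = c := pow_q_pow_q hF c

/-! ### lifting -/

theorem sm_iter_one (A : GU n F q) (k : ℕ) (v : Fin n → F) : (sm A (1 : F ≃+* F))^[k] v = gm (A ^ k) *ᵥ v := by
  induction k with
  | zero => rw [pow_zero, gm_one, one_mulVec]; rfl
  | succ k ih => rw [Function.iterate_succ_apply', ih, sm_one, mulVec_mulVec, pow_succ', gm_mul]

theorem toAut_pow_one (A : GU n F q) (k : ℕ) : (toAut (A ^ k) (1 : F ≃+* F) : MulAut (PSU n F q)) = toAut A 1 ^ k :=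
  map_pow (f₁ (F := F) (q := q) (n := n)) A k

theorem norm_of_smul (hn : 1 ≤ n) {A : GU n F q} {ρ : F ≃+* F} {c : F} (h : ∀ v, sm A ρ v = c • v) :
    c * c ^ q = 1 := by
  have h1 := herm_sm A ρ (Pi.single ⟨0, by omega⟩ 1) (Pi.single ⟨0, by omega⟩ 1)
  rw [h, herm_smul_left, herm_smul_right, herm_single_left, Pi.single_eq_same, one_pow, mul_one, map_one, mul_one] at h1
  exact h1

theorem act_pow (a : SU n F q) (k : ℕ) (v : Fin n → F) : act (a ^ k) v = (act a)^[k] v := by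
  induction k with
  | zero => rw [pow_zero, act_one]; rfl
  | succ k ih => rw [pow_succ', act_mul, ih, Function.iterate_succ_apply']

theorem mat_pow (a : SU n F q) (k : ℕ) : mat (a ^ k) = mat a ^ k := by
  induction k with
  | zero => rw [pow_zero, pow_zero, mat_one]
  | succ k ih => rw [pow_succ, pow_succ, mat_mul, ih]

theorem simple_psu (hF : Fintype.card F = 3 ^ 2) (hn : 3 ≤ n) : IsSimpleGroup (PSU n F 3) :=
  S0283.result hF n hn (by rintro ⟨-, h⟩; omega)

theorem not_comm_psu (hF : Fintype.card F = 3 ^ 2) (hn : 3 ≤ n) : ¬ IsMulCommutative (PSU n F 3) := by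
  intro hcm
  have hS := simple_psu hF hn
  have h1 : commutator (SU n F 3) ≤ center (SU n F 3) := by
    rw [commutator_def, commutator_le]
    intro a _ b _
    apply (QuotientGroup.eq_one_iff _).1
    change pr n F 3 ⁅a, b⁆ = 1
    rw [map_commutatorElement, commutatorElement_eq_one_iff_mul_comm]
    exact hcm.is_comm.comm _ _
  rw [Cfsg.Agent.LieClassical.HermPerfect.commutator_SU_eq_top hF hn (by rintro ⟨-, h⟩; omega)] at h1
  obtain ⟨y, hy⟩ := exists_ne (1 : PSU n F 3)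
  obtain ⟨s, rfl⟩ := pr_surjective y
  exact hy ((QuotientGroup.eq_one_iff s).2 (h1 (mem_top s)))

theorem center_psu (hF : Fintype.card F = 3 ^ 2) (hn : 3 ≤ n) : center (PSU n F 3) = ⊥ := by
  have := simple_psu hF hn
  exact center_eq_bot (not_comm_psu hF hn)

/-- **lifting** -/
theorem exists_su (hF : Fintype.card F = 3 ^ 2) (hn : 3 ≤ n) {x : MulAut (PSU n F 3)} (hx : x ^ 9 = 1) :
    ∃ (A : GU n F 3) (a : SU n F 3), gm A = mat a ∧ x = toAut A 1 ∧ x = MulAut.conj (pr n F 3 a) ∧ a ^ 9 = 1 ∧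
      (x ^ 3 = 1 → a ^ 3 = 1) := by
  have hc3 := char_three hF
  have hf3 : Fact (Nat.Prime 3) := ⟨Nat.prime_three⟩
  obtain ⟨A, ρ, hA⟩ := ClassicalGeometry.PSUAutMain.exists_toAut hF hn (by rintro ⟨-, h⟩; omega) x
  have h1 := hx
  rw [hA, pow_eq_one_iff hF hn] at h1
  obtain ⟨h2, c, hc⟩ := h1
  have hρ : ρ = 1 := by
    have h3 := ringAut_sq hF ρ
    calc ρ = ρ ^ 9 * (ρ ^ 2) ^ 4 * ρ⁻¹ ^ 16 := by rw [← pow_mul, ← pow_add, inv_pow]; group
      _ = 1 := by rw [h2, h3, inv_pow, show (16 : ℕ) = 2 * 8 by norm_num, pow_mul, h3]; simp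
  subst hρ
  have hc' : ∀ v, gm (A ^ 9) *ᵥ v = c • v := fun v => by rw [← sm_iter_one, hc]
  have hcc : c * c ^ 3 = 1 := norm_of_smul (A := A ^ 9) (ρ := 1) (by omega) fun v => by rw [sm_one, hc']
  have hgm : gm (A ^ 9) = c • (1 : Matrix (Fin n) (Fin n) F) := gm_ext hc'
  have h28 : gm ((A ^ 28) ^ 9) = 1 := by
    rw [← pow_mul, mul_comm, pow_mul, gm_pow', hgm, smul_pow, one_pow]
    rw [show (28 : ℕ) = 4 * 7 by norm_num, pow_mul, show c ^ 4 = c * c ^ 3 by ring, hcc, one_pow, one_smul]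
  have hx28 : toAut (A ^ 28) 1 = x := by
    rw [toAut_pow_one, ← hA, show (28 : ℕ) = 9 * 3 + 1 by norm_num, pow_succ, pow_mul, hx, one_pow, one_mul]
  have hdet : (gm (A ^ 28)).det = 1 := by
    have h3 : (gm (A ^ 28)).det ^ 9 = 1 := by
      rw [← det_pow, ← gm_pow', h28, det_one]
    have h4 : ((gm (A ^ 28)).det - 1) ^ 3 ^ 2 = 0 := by
      rw [sub_pow_char_pow, one_pow]
      norm_num
      rw [h3, sub_self]
    exact sub_eq_zero.1 (pow_eq_zero_iff (by norm_num) |>.1 h4)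
  let a : SU n F 3 := mkSU (gm (A ^ 28)) hdet (fun u v => herm_gm _ u v)
  have ha : mat a = gm (A ^ 28) := rfl
  have hxa : x = MulAut.conj (pr n F 3 a) := by
    rw [← hx28]
    exact f₁_eq_conj (A ^ 28) a ha.symm
  have ha9 : a ^ 9 = 1 := by
    apply mat_injective
    rw [mat_pow, ha, ← gm_pow', h28, mat_one]
  refine ⟨A ^ 28, a, ha.symm, hx28.symm, hxa, ha9, fun h3 => ?_⟩
  have h5 : pr n F 3 (a ^ 3) = 1 := by
    have h6 : MulAut.conj (pr n F 3 (a ^ 3)) = 1 := by rw [map_pow, map_pow, ← hxa, h3]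
    rw [conj_eq_one_iff' (center_psu hF hn)] at h6
    exact h6
  exact eq_one_of_center_of_pow hF hn (k := 1) (pr_eq_one_iff.1 h5) (by rw [pow_one, ← pow_mul]; exact ha9)

/-! ### totally isotropic planes -/

/-- a vector orthogonal to `u` with a given product with `v` -/
theorem exists_perp_val (hF : Fintype.card F = q ^ 2) {u v : Fin n → F} (hu : u ≠ 0) (huv : ∀ c : F, v ≠ c • u) (t : F) :
    ∃ w, hermForm n F q w u = 0 ∧ hermForm n F q w v = t := by
  suffices h : ∃ w, hermForm n F q w u = 0 ∧ hermForm n F q w v ≠ 0 by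
    obtain ⟨w, h1, h2⟩ := h
    refine ⟨(t / hermForm n F q w v) • w, by rw [herm_smul_left, h1, mul_zero], ?_⟩
    rw [herm_smul_left, div_mul_cancel₀ _ h2]
  by_contra hcon
  push Not at hcon
  obtain ⟨x0, hx0⟩ := exists_herm_ne_zero hF hu
  have hx0' : hermForm n F q x0 u ≠ 0 := fun h => hx0 (herm_eq_zero_swap hF h)
  obtain ⟨x, hx⟩ : ∃ x, hermForm n F q x u = 1 :=
    ⟨(hermForm n F q x0 u)⁻¹ • x0, by rw [herm_smul_left, inv_mul_cancel₀ hx0']⟩
  apply huv ((hermForm n F q x v) ^ q)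
  rw [← sub_eq_zero]
  apply herm_nondeg hF
  intro w
  apply herm_eq_zero_swap hF
  have h1 : hermForm n F q (w - hermForm n F q w u • x) u = 0 := by
    rw [herm_sub_left, herm_smul_left, hx, mul_one, sub_self]
  have h2 := hcon _ h1
  rw [herm_sub_left, herm_smul_left] at h2
  rw [herm_sub_right hF, herm_smul_right, pow_q_pow_q hF]
  linear_combination h2

/-- transvections of a totally isotropic plane are induced by Siegel transformations -/
theorem exists_siegel_plane (hF : Fintype.card F = q ^ 2) {u v : Fin n → F} (hu : u ≠ 0) (huv : ∀ c : F, v ≠ c • u)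
    (huu : hermForm n F q u u = 0) (huv' : hermForm n F q u v = 0) (c : F) :
    ∃ g : SU n F q, act g u = u ∧ act g v = v + c • u := by
  obtain ⟨w, h1, h2⟩ := exists_perp_val hF hu huv (-c ^ q)
  obtain ⟨μ, hμ⟩ := exists_trace_eq hF (c := -hermForm n F q w w) (by rw [neg_pow_q hF, herm_self_pow hF])
  have hS : IsSiegel q u w μ := ⟨huu, h1, by rw [hμ, neg_add_cancel]⟩
  refine ⟨siegel hF u w μ hS, act_siegel_self hF hS, ?_⟩
  have h3 : hermForm n F q v w = -c := by
    rw [herm_swap hF w v, h2, neg_pow_q hF, pow_q_pow_q hF]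
  rw [act_siegel, herm_eq_zero_swap hF huv', h3]
  simp

/-- the embedding of the plane -/
def pl (u v : Fin n → F) (x : Fin 2 → F) : Fin n → F := x 0 • u + x 1 • v

/-- pairs `(m, S)`, `m` acts on the plane as `S` -/
def plG (q : ℕ) (u v : Fin n → F) : Subgroup (SU n F q × Matrix.SpecialLinearGroup (Fin 2) F) where
  carrier := {p | ∀ x, act p.1 (pl u v x) = pl u v (p.2.1 *ᵥ x)}
  one_mem' := by
    intro x
    show act 1 _ = pl u v ((1 : Matrix (Fin 2) (Fin 2) F) *ᵥ x)
    rw [act_one, one_mulVec]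
  mul_mem' := by
    intro a b ha hb x
    show act (a.1 * b.1) _ = pl u v ((a.2.1 * b.2.1) *ᵥ x)
    rw [act_mul, hb, ha, mulVec_mulVec]
  inv_mem' := by
    intro a ha x
    have h1 := ha ((a.2⁻¹).1 *ᵥ x)
    have h2 : a.2.1 * (a.2⁻¹).1 = 1 := congrArg Subtype.val (mul_inv_cancel a.2)
    rw [mulVec_mulVec, h2, one_mulVec] at h1
    show act a.1⁻¹ _ = pl u v ((a.2⁻¹).1 *ᵥ x)
    rw [← h1, act_inv_act]

theorem mem_plG {u v : Fin n → F} {p : SU n F q × Matrix.SpecialLinearGroup (Fin 2) F} :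
    p ∈ plG q u v ↔ ∀ x, act p.1 (pl u v x) = pl u v (p.2.1 *ᵥ x) := Iff.rfl

theorem mem_plG_of {u v : Fin n → F} {g : SU n F q} {S : Matrix.SpecialLinearGroup (Fin 2) F}
    (h0 : act g u = S.1 0 0 • u + S.1 1 0 • v) (h1 : act g v = S.1 0 1 • u + S.1 1 1 • v) :
    (g, S) ∈ plG q u v := by
  intro x
  show act g (x 0 • u + x 1 • v) = (S.1 *ᵥ x) 0 • u + (S.1 *ᵥ x) 1 • v
  rw [act_add, act_smul, act_smul, h0, h1]
  simp only [mulVec, dotProduct, Fin.sum_univ_two]
  module

theorem pl_injective {u v : Fin n → F} (hu : u ≠ 0) (huv : ∀ c : F, v ≠ c • u) {x : Fin 2 → F} (h : pl u v x = 0) :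
    x = 0 := by
  have h1 : x 1 = 0 := by
    by_contra h1
    apply huv (-(x 1)⁻¹ * x 0)
    have h2 : x 0 • u + x 1 • v = 0 := h
    have h3 : x 1 • v = -(x 0 • u) := eq_neg_of_add_eq_zero_right h2
    calc v = (x 1)⁻¹ • (x 1 • v) := by rw [smul_smul, inv_mul_cancel₀ h1, one_smul]
      _ = _ := by rw [h3, smul_neg, smul_smul, neg_mul, neg_smul]
  have h0 : x 0 = 0 := by
    have h2 : x 0 • u + x 1 • v = 0 := h
    rw [h1, zero_smul, add_zero] at h2
    exact (smul_eq_zero.1 h2).resolve_right hu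
  funext i
  fin_cases i
  · exact h0
  · exact h1

theorem ne_smul_swap {u v : Fin n → F} (hu : u ≠ 0) (huv : ∀ c : F, v ≠ c • u) (c : F) : u ≠ c • v := by
  intro h
  rcases eq_or_ne c 0 with rfl | hc
  · exact hu (by rw [h, zero_smul])
  · exact huv c⁻¹ (by rw [h, smul_smul, inv_mul_cancel₀ hc, one_smul])

theorem plG_surj (hF : Fintype.card F = q ^ 2) {u v : Fin n → F} (hu : u ≠ 0) (huv : ∀ c : F, v ≠ c • u)
    (huu : hermForm n F q u u = 0) (huv' : hermForm n F q u v = 0) (hvv : hermForm n F q v v = 0)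
    (S : Matrix.SpecialLinearGroup (Fin 2) F) : ∃ g : SU n F q, (g, S) ∈ plG q u v := by
  have hv : v ≠ 0 := fun h => huv 0 (by rw [h, zero_smul])
  have key : (plG q u v).map (MonoidHom.snd _ _) = ⊤ := by
    refine Cfsg.Agent.H262.Pair.sl2_gen _ (fun c m hm => ?_) (fun c m hm => ?_)
    · obtain ⟨g, h1, h2⟩ := exists_siegel_plane hF hu huv huu huv' c
      refine ⟨(g, m), mem_plG_of ?_ ?_, rfl⟩
      · rw [h1, hm]
        simp
      · rw [h2, hm]
        simp [add_comm]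
    · obtain ⟨g, h1, h2⟩ := exists_siegel_plane hF hv (ne_smul_swap hu huv) hvv (herm_eq_zero_swap hF huv') c
      refine ⟨(g, m), mem_plG_of ?_ ?_, rfl⟩
      · rw [h2, hm]
        simp
      · rw [h1, hm]
        simp
  have h1 : S ∈ (plG q u v).map (MonoidHom.snd _ _) := by rw [key]; exact mem_top _
  obtain ⟨⟨g, S'⟩, h2, h3⟩ := h1
  have h4 : S' = S := h3
  subst h4
  exact ⟨g, h2⟩

/-- **no transvection on a totally isotropic plane** -/
theorem no_J (hC : Core3) (hF : Fintype.card F = 3 ^ 2) (hn : 3 ≤ n) {a : SU n F 3} {u v : Fin n → F}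
    (hu : u ≠ 0) (huu : hermForm n F 3 u u = 0) (huv' : hermForm n F 3 u v = 0) (hvv : hermForm n F 3 v v = 0)
    (hau : act a u = u) (hav : act a v = v + u) (hP : PS 2 (MulAut.conj (pr n F 3 a))) : False := by
  have hc3 := char_three hF
  have huv : ∀ c : F, v ≠ c • u := by
    rintro c rfl
    rw [act_smul, hau] at hav
    exact hu (left_eq_add.1 hav)
  let J : Matrix.SpecialLinearGroup (Fin 2) F := ⟨!![1, 1; 0, 1], by simp [Matrix.det_fin_two]⟩
  have hJ : J.1 = !![1, 1; 0, 1] := rfl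
  have hmem : (a, J) ∈ plG 3 u v := mem_plG_of (by rw [hau, hJ]; simp) (by rw [hav, hJ]; simp [add_comm])
  let φ : plG 3 u v →* PSU n F 3 := (pr n F 3).comp ((MonoidHom.fst _ _).comp (plG 3 u v).subtype)
  let f : plG 3 u v →* Matrix.ProjectiveSpecialLinearGroup (Fin 2) F :=
    (QuotientGroup.mk' (center (Matrix.SpecialLinearGroup (Fin 2) F))).comp
      ((MonoidHom.snd _ _).comp (plG 3 u v).subtype)
  have hf : Function.Surjective f := by
    intro z
    obtain ⟨S, rfl⟩ := QuotientGroup.mk'_surjective _ z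
    obtain ⟨g, hg⟩ := plG_surj hF hu huv huu huv' hvv S
    exact ⟨⟨(g, S), hg⟩, rfl⟩
  have hk : φ.ker ≤ f.ker := by
    rintro ⟨⟨g, S⟩, hgS⟩ h
    have h1 : pr n F 3 g = 1 := MonoidHom.mem_ker.1 h
    obtain ⟨c, -, -, hc⟩ := exists_scalar_of_mem_center hF hn (pr_eq_one_iff.1 h1)
    have h2 : ∀ x, S.1 *ᵥ x = c • x := by
      intro x
      rw [← sub_eq_zero]
      apply pl_injective hu huv
      have h3 : act g (pl u v x) = pl u v (S.1 *ᵥ x) := hgS x
      rw [hc] at h3
      have h4 : pl u v (S.1 *ᵥ x - c • x) = pl u v (S.1 *ᵥ x) - c • pl u v x := by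
        simp only [pl, Pi.sub_apply, Pi.smul_apply, smul_eq_mul]
        module
      rw [h4, ← h3, sub_self]
    rw [MonoidHom.mem_ker]
    refine (QuotientGroup.eq_one_iff S).2 ?_
    rw [mem_center_iff]
    intro T
    apply Subtype.ext
    show T.1 * S.1 = S.1 * T.1
    apply Matrix.mulVec_injective
    funext x
    rw [← mulVec_mulVec, ← mulVec_mulVec, h2, h2, mulVec_smul]
  refine no_psl_nine_conj hC (by rw [hF]; norm_num) (J := J) ?_ ?_ (PS_corr_conj φ f hf hk ⟨(a, J), hmem⟩ hP)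
  · apply Subtype.ext
    show J.1 ^ 3 = 1
    rw [hJ]
    have h3 := three_eq hF
    ext i j
    fin_cases i <;> fin_cases j <;> simp [pow_succ, Matrix.mul_apply, Fin.sum_univ_two]
    linear_combination h3
  · intro h
    have h1 := mem_center_iff.1 h (⟨!![1, 0; 1, 1], by simp [Matrix.det_fin_two]⟩ : Matrix.SpecialLinearGroup (Fin 2) F)
    have h2 := congrFun (congrFun (congrArg Subtype.val h1) 0) 0
    change ((!![1, 0; 1, 1] : Matrix (Fin 2) (Fin 2) F) * (!![1, 1; 0, 1] : Matrix (Fin 2) (Fin 2) F)) 0 0 =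
      ((!![1, 1; 0, 1] : Matrix (Fin 2) (Fin 2) F) * (!![1, 0; 1, 1] : Matrix (Fin 2) (Fin 2) F)) 0 0 at h2
    simp [Matrix.mul_apply, Fin.sum_univ_two] at h2

end Cfsg.Agent.H500.SN
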