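import Cfsg.Agent.H500.SN.USix
import Cfsg.Agent.H521.SN.SpFourSix

/-!
# S3831, `U₄(3)`: `PSp₄(3)` and semilinear elements of order six (helper500)

* `semi_four` : the product of a transvection and a commuting semilinear involution normalises a subgroup `PSp₄(3)`, on
  which it has order six.
-/

set_option autoImplicit false
set_option linter.unusedSectionVars false

namespace Cfsg.Agent.H500.SN

open Matrix Subgroup Module Cfsg Cfsg.Agent.H459.Rad Cfsg.Agent.H21.SN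
open Cfsg.Agent.LieClassical.HermBasic Cfsg.Agent.LieClassical.HermSiegel
open Cfsg.Agent.ClassicalGeometry.PSUAutBasic Cfsg.Agent.ClassicalGeometry.HermOrtho
open Cfsg.Agent.ClassicalGeometry.PSUAutCount (toAut gm gm_mul gm_one gm_mul_inv gm_inv_mul semiConj guConj act_guConj
  herm_gm gm_inv_mulVec gm_mulVec_inv herm_map gm_inj act_semiConj herm_semi eq_of_toAut_eq)
open Cfsg.Agent.H189.SN (sm sm_def sm_one sm_add sm_smul sm_zero sm_sub sm_sum herm_sm sm_surjective sm_injective act_semi)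

variable {F : Type} [Field F] [Fintype F] {n : ℕ}

/-- index set -/
abbrev Ix := Fin 2 ⊕ Fin 2

/-- the symplectic group over the prime field -/
abbrev Sp3 := ↥(Matrix.symplecticGroup (Fin 2) (ZMod 3))

section Emb

variable (hF : Fintype.card F = 3 ^ 2)

/-- the prime field -/
def io (hF : Fintype.card F = 3 ^ 2) : ZMod 3 →+* F := @ZMod.castHom 3 3 (dvd_refl 3) F _ (char_three hF)

theorem io_cube (z : ZMod 3) : io hF z ^ 3 = io hF z := by
  rw [← map_pow]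
  congr 1
  revert z
  decide

theorem io_injective : Function.Injective (io hF) := (io hF).injective

/-- matrices over the prime field -/
def mp (S : Matrix Ix Ix (ZMod 3)) : Matrix Ix Ix F := S.map (io hF)

theorem mp_mul (S S' : Matrix Ix Ix (ZMod 3)) : mp hF (S * S') = mp hF S * mp hF S' := Matrix.map_mul

theorem mp_one : mp hF 1 = 1 := Matrix.map_one _ (map_zero _) (map_one _)

theorem mp_injective {S S' : Matrix Ix Ix (ZMod 3)} (h : mp hF S = mp hF S') : S = S' := by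
  ext i j
  exact io_injective hF (congrFun (congrFun h i) j)

theorem mp_J : mp hF (J (Fin 2) (ZMod 3)) = J (Fin 2) F := by
  ext i j
  rcases i with i | i <;> rcases j with j | j <;> simp [mp, J, Matrix.one_apply, apply_ite (io hF)]

theorem mp_transpose (S : Matrix Ix Ix (ZMod 3)) : mp hF Sᵀ = (mp hF S)ᵀ := rfl

theorem mp_det (S : Matrix Ix Ix (ZMod 3)) : (mp hF S).det = io hF S.det := ((io hF).map_det S).symm

/-- cubes of the entries -/
def cb {ι : Type*} (x : ι → F) : ι → F := fun i => x i ^ 3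

include hF in
theorem cb_cb {ι : Type*} (x : ι → F) : cb (cb x) = x := by
  funext i
  exact conj_conj hF (x i)

theorem cb_mp (S : Matrix Ix Ix (ZMod 3)) (x : Ix → F) : cb (mp hF S *ᵥ x) = mp hF S *ᵥ cb x := by
  funext i
  simp only [cb, mulVec, dotProduct, mp, Matrix.map_apply]
  rw [sum_pow_q hF]
  refine Finset.sum_congr rfl fun j _ => ?_
  rw [mul_pow, io_cube]

end Emb

/-! ### the basis -/

/-- the matrix of a basis -/
def bm (b : Ix → (Fin 4 → F)) : Matrix (Fin 4) Ix F := Matrix.of fun i s => b s i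

theorem bm_mulVec (b : Ix → (Fin 4 → F)) (x : Ix → F) : bm b *ᵥ x = ∑ s, x s • b s := by
  funext i
  simp only [bm, mulVec, dotProduct, Matrix.of_apply, Finset.sum_apply, Pi.smul_apply, smul_eq_mul]
  exact Finset.sum_congr rfl fun s _ => mul_comm _ _

/-- bases with Gram matrix `-μ J` -/
structure SB (b : Ix → (Fin 4 → F)) (μ : F) : Prop where
  mu : μ ^ 2 = -1
  gram : ∀ s t, hermForm 4 F 3 (b s) (b t) = -μ * J (Fin 2) F s t

section SB

variable {b : Ix → (Fin 4 → F)} {μ : F}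

theorem SB.herm (hF : Fintype.card F = 3 ^ 2) (h : SB b μ) (x y : Ix → F) :
    hermForm 4 F 3 (bm b *ᵥ x) (bm b *ᵥ y) = -μ * (x ⬝ᵥ (J (Fin 2) F *ᵥ cb y)) := by
  rw [bm_mulVec, bm_mulVec, herm_sum_left]
  simp only [herm_smul_left, herm_sum_right hF, herm_smul_right, h.gram]
  simp only [dotProduct, mulVec, cb, Finset.mul_sum]
  refine Finset.sum_congr rfl fun s _ => Finset.sum_congr rfl fun t _ => ?_
  ring

/-- the inverse -/
def bi (b : Ix → (Fin 4 → F)) (μ : F) : Matrix Ix (Fin 4) F :=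
  μ • (J (Fin 2) F * (Matrix.of fun (s : Ix) (i : Fin 4) => b s i ^ 3))

theorem SB.bi_mul (h : SB b μ) : bi b μ * bm b = 1 := by
  have h1 : (Matrix.of fun (s : Ix) (i : Fin 4) => b s i ^ 3) * bm b = μ • J (Fin 2) F := by
    ext s t
    have h2 : ((Matrix.of fun (s : Ix) (i : Fin 4) => b s i ^ 3) * bm b) s t = hermForm 4 F 3 (b t) (b s) := by
      rw [herm_def, Matrix.mul_apply]
      exact Finset.sum_congr rfl fun i _ => mul_comm _ _
    have h3 : J (Fin 2) F t s = -J (Fin 2) F s t := by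
      have := congrFun (congrFun (J_transpose (Fin 2) F) s) t
      exact this
    rw [h2, h.gram, h3, Matrix.smul_apply, smul_eq_mul]
    ring
  rw [bi, Matrix.smul_mul, Matrix.mul_assoc, h1, Matrix.mul_smul, smul_smul, ← pow_two, h.mu, J_squared]
  simp

theorem SB.mul_bi (h : SB b μ) : bm b * bi b μ = 1 :=
  (Matrix.mul_eq_one_comm_of_card_eq _ _ _ (by simp)).1 h.bi_mul

theorem SB.surj (h : SB b μ) (v : Fin 4 → F) : ∃ x, v = bm b *ᵥ x :=
  ⟨bi b μ *ᵥ v, by rw [mulVec_mulVec, h.mul_bi, one_mulVec]⟩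

theorem SB.inj (h : SB b μ) {x y : Ix → F} (hxy : bm b *ᵥ x = bm b *ᵥ y) : x = y := by
  have h1 := congrArg (fun v => bi b μ *ᵥ v) hxy
  simp only [mulVec_mulVec, h.bi_mul, one_mulVec] at h1
  exact h1

/-- symplectic matrices over `F₃` in this basis -/
theorem SB.exists_su (hF : Fintype.card F = 3 ^ 2) (h : SB b μ) (S : Sp3) :
    ∃ g : SU 4 F 3, ∀ x, act g (bm b *ᵥ x) = bm b *ᵥ (mp hF S.1 *ᵥ x) := by
  have hdet : (bm b * mp hF S.1 * bi b μ).det = 1 := by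
    rw [Matrix.det_conj_of_mul_eq_one (h.mul_bi) (h.bi_mul), mp_det, SymplecticGroup.det_eq_one S.2, map_one]
  have hx : ∀ x, (bm b * mp hF S.1 * bi b μ) *ᵥ (bm b *ᵥ x) = bm b *ᵥ (mp hF S.1 *ᵥ x) := by
    intro x
    rw [← mulVec_mulVec, ← mulVec_mulVec, mulVec_mulVec x, h.bi_mul, one_mulVec]
  have hS : (mp hF S.1)ᵀ * J (Fin 2) F * mp hF S.1 = J (Fin 2) F := by
    rw [← mp_transpose, ← mp_J hF, ← mp_mul, ← mp_mul, SymplecticGroup.mem_iff'.1 S.2]
  refine ⟨mkSU (bm b * mp hF S.1 * bi b μ) hdet ?_, hx⟩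
  intro u v
  obtain ⟨x, rfl⟩ := h.surj u
  obtain ⟨y, rfl⟩ := h.surj v
  rw [hx, hx, h.herm hF, h.herm hF, cb_mp]
  congr 1
  rw [← vecMul_transpose, ← dotProduct_mulVec, mulVec_mulVec, mulVec_mulVec, hS]

/-- pairs `(m, S)`, `m` acts as `S` -/
def spG (hF : Fintype.card F = 3 ^ 2) (b : Ix → (Fin 4 → F)) : Subgroup (SU 4 F 3 × Sp3) where
  carrier := {p | ∀ x, act p.1 (bm b *ᵥ x) = bm b *ᵥ (mp hF p.2.1 *ᵥ x)}
  one_mem' := by
    intro x
    show act 1 _ = bm b *ᵥ (mp hF 1 *ᵥ x)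
    rw [act_one, mp_one, one_mulVec]
  mul_mem' := by
    intro a c ha hc x
    show act (a.1 * c.1) _ = bm b *ᵥ (mp hF (a.2.1 * c.2.1) *ᵥ x)
    rw [act_mul, hc, ha, mp_mul, mulVec_mulVec x]
  inv_mem' := by
    intro a ha x
    have h1 := ha (mp hF (a.2⁻¹).1 *ᵥ x)
    have h2 : a.2.1 * (a.2⁻¹).1 = 1 := congrArg Subtype.val (mul_inv_cancel a.2)
    rw [mulVec_mulVec x (mp hF a.2.1) (mp hF (a.2⁻¹).1), ← mp_mul, h2, mp_one, one_mulVec] at h1
    show act a.1⁻¹ _ = bm b *ᵥ (mp hF (a.2⁻¹).1 *ᵥ x)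
    rw [← h1, act_inv_act]

theorem mem_spG {hF : Fintype.card F = 3 ^ 2} {p : SU 4 F 3 × Sp3} :
    p ∈ spG hF b ↔ ∀ x, act p.1 (bm b *ᵥ x) = bm b *ᵥ (mp hF p.2.1 *ᵥ x) := Iff.rfl

/-- **`PS` passes to `PSp₄(3)`** -/
theorem SB.ps (hF : Fintype.card F = 3 ^ 2) (h : SB b μ) {C : GU 4 F 3} {a : F} (ha : a ≠ 0) (Z : Sp3)
    (hX : ∀ u, sm C (conj hF) (bm b *ᵥ u) = a • (bm b *ᵥ (mp hF Z.1 *ᵥ cb u)))
    (hP : PS 2 (toAut C (conj hF) : MulAut (PSU 4 F 3))) :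
    PS 2 (MulAut.conj (QuotientGroup.mk' (center Sp3) Z : PSp 2 (ZMod 3))) := by
  let φ : spG hF b →* PSU 4 F 3 := (pr 4 F 3).comp ((MonoidHom.fst _ _).comp (spG hF b).subtype)
  let f : spG hF b →* PSp 2 (ZMod 3) := (QuotientGroup.mk' (center Sp3)).comp
    ((MonoidHom.snd _ _).comp (spG hF b).subtype)
  refine PS_corr hP φ f ?_ ?_ _ ?_
  · intro z
    obtain ⟨S, rfl⟩ := QuotientGroup.mk'_surjective _ z
    obtain ⟨g, hg⟩ := h.exists_su hF S
    exact ⟨⟨(g, S), hg⟩, rfl⟩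
  · rintro ⟨⟨g, S⟩, hgS⟩ h0
    have h1 : pr 4 F 3 g = 1 := MonoidHom.mem_ker.1 h0
    obtain ⟨c, -, -, hc⟩ := exists_scalar_of_mem_center hF (by norm_num) (pr_eq_one_iff.1 h1)
    have h2 : ∀ x, mp hF S.1 *ᵥ x = c • x := by
      intro x
      apply h.inj
      have h3 : act g (bm b *ᵥ x) = bm b *ᵥ (mp hF S.1 *ᵥ x) := hgS x
      rw [← h3, hc, mulVec_smul]
    rw [MonoidHom.mem_ker]
    refine (QuotientGroup.eq_one_iff S).2 ?_
    rw [mem_center_iff]
    intro T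
    apply Subtype.ext
    apply mp_injective hF
    show mp hF (T.1 * S.1) = mp hF (S.1 * T.1)
    rw [mp_mul, mp_mul]
    apply Matrix.mulVec_injective
    funext x
    rw [← mulVec_mulVec, ← mulVec_mulVec, h2, h2, mulVec_smul]
  · rintro ⟨⟨m, S⟩, hm⟩
    refine ⟨⟨(semiConj C (conj hF) m, Z * S * Z⁻¹), ?_⟩, rfl, ?_⟩
    · rw [mem_spG]
      intro x
      obtain ⟨u, hu⟩ : ∃ u, u = cb (mp hF (Z⁻¹).1 *ᵥ (a⁻¹ • x)) := ⟨_, rfl⟩
      have hcu : cb u = mp hF (Z⁻¹).1 *ᵥ (a⁻¹ • x) := by rw [hu, cb_cb hF]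
      have hZ : Z.1 * (Z⁻¹).1 = 1 := congrArg Subtype.val (mul_inv_cancel Z)
      have h1 : bm b *ᵥ x = sm C (conj hF) (bm b *ᵥ u) := by
        rw [hX, hcu, mulVec_mulVec (a⁻¹ • x) (mp hF Z.1) (mp hF (Z⁻¹).1), ← mp_mul, hZ, mp_one, one_mulVec,
          mulVec_smul, smul_smul, mul_inv_cancel₀ ha, one_smul]
      have h2 : act m (bm b *ᵥ u) = bm b *ᵥ (mp hF S.1 *ᵥ u) := hm u
      show act (semiConj C (conj hF) m) (bm b *ᵥ x) = bm b *ᵥ (mp hF (Z.1 * S.1 * (Z⁻¹).1) *ᵥ x)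
      rw [h1, act_semi, h2, hX, cb_mp, hcu, mp_mul, mp_mul]
      simp only [mulVec_smul, smul_smul, mulVec_mulVec, Matrix.mul_assoc]
      rw [mul_inv_cancel₀ ha, one_smul]
    · show f _ = MulAut.conj _ (f _)
      rw [MulAut.conj_apply]
      rfl

end SB

/-! ### the element of order six -/

/-- `diag (1, -1, 1, -1)` times a transvection -/
def ZM : Matrix Ix Ix (ZMod 3) := fromBlocks !![1, 0; 0, -1] !![1, 0; 0, 0] 0 !![1, 0; 0, -1]

theorem ZM_mem : ZM * J (Fin 2) (ZMod 3) * ZMᵀ = J (Fin 2) (ZMod 3) := by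
  decide +kernel

def Z3 : Sp3 := ⟨ZM, SymplecticGroup.mem_iff.2 ZM_mem⟩

/-- two elements of `Sp₄(3)` -/
def L1 : Matrix Ix Ix (ZMod 3) := fromBlocks 1 0 !![1, 0; 0, 0] 1

def L2 : Matrix Ix Ix (ZMod 3) := fromBlocks !![1, 1; 0, 1] 0 0 !![1, 0; -1, 1]

theorem L1_mem : L1 * J (Fin 2) (ZMod 3) * L1ᵀ = J (Fin 2) (ZMod 3) := by
  decide +kernel

theorem L2_mem : L2 * J (Fin 2) (ZMod 3) * L2ᵀ = J (Fin 2) (ZMod 3) := by
  decide +kernel

theorem Z3_pow (k : ℕ) : (Z3 ^ k : Sp3).1 = ZM ^ k := by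
  induction k with
  | zero => rfl
  | succ k ih => rw [pow_succ, pow_succ, ← ih]; rfl

theorem order_Z3 : orderOf (MulAut.conj (QuotientGroup.mk' (center Sp3) Z3 : PSp 2 (ZMod 3))) = 6 := by
  have key : ∀ k : ℕ, (MulAut.conj (QuotientGroup.mk' (center Sp3) Z3 : PSp 2 (ZMod 3))) ^ k = 1 ↔
      Z3 ^ k ∈ center Sp3 := by
    intro k
    rw [← map_pow, ← map_pow, conj_eq_one_iff' Cfsg.Agent.H855.Rad3.SpFour.center_P]
    exact QuotientGroup.eq_one_iff _
  refine Cfsg.Agent.H189.SN.ord_six (orderOf_dvd_of_pow_eq_one ?_) ?_ ?_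
  · rw [key]
    have h1 : Z3 ^ 6 = 1 := by
      apply Subtype.ext
      rw [Z3_pow]
      show ZM ^ 6 = 1
      have h2 : ZM * ZM * ZM * (ZM * ZM * ZM) = 1 := by decide +kernel
      rw [← h2]
      simp only [pow_succ, pow_zero, one_mul, mul_assoc]
    rw [h1]
    exact one_mem _
  · rw [orderOf_dvd_iff_pow_eq_one, key]
    intro h
    have h1 := mem_center_iff.1 h ⟨L1, SymplecticGroup.mem_iff.2 L1_mem⟩
    have h2 : L1 * (ZM * ZM) = ZM * ZM * L1 := by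
      have h3 := congrArg Subtype.val h1
      change L1 * (Z3 ^ 2 : Sp3).1 = (Z3 ^ 2 : Sp3).1 * L1 at h3
      rw [Z3_pow, pow_two] at h3
      exact h3
    revert h2
    decide +kernel
  · rw [orderOf_dvd_iff_pow_eq_one, key]
    intro h
    have h1 := mem_center_iff.1 h ⟨L2, SymplecticGroup.mem_iff.2 L2_mem⟩
    have h2 : L2 * (ZM * ZM * ZM) = ZM * ZM * ZM * L2 := by
      have h3 := congrArg Subtype.val h1
      change L2 * (Z3 ^ 3 : Sp3).1 = (Z3 ^ 3 : Sp3).1 * L2 at h3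
      rw [Z3_pow, pow_succ, pow_two] at h3
      exact h3
    revert h2
    decide +kernel

/-- **the semilinear case, `n = 4`** -/
theorem semi_four (hF : Fintype.card F = 3 ^ 2) {C : GU 4 F 3} {w w' v1 v2 : Fin 4 → F} {a μ : F} (ha0 : a ≠ 0)
    (hμ : μ ^ 2 = -1) (g1 : hermForm 4 F 3 w w = 0) (g2 : hermForm 4 F 3 w' w' = 0) (g3 : hermForm 4 F 3 w' w = -μ)
    (g4 : hermForm 4 F 3 v1 w = 0) (g5 : hermForm 4 F 3 v1 w' = 0) (g6 : hermForm 4 F 3 v2 w = 0)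
    (g7 : hermForm 4 F 3 v2 w' = 0) (g8 : hermForm 4 F 3 v1 v1 = 0) (g9 : hermForm 4 F 3 v2 v2 = 0)
    (g10 : hermForm 4 F 3 v2 v1 = -μ) (x1 : sm C (conj hF) w = a • w) (x2 : sm C (conj hF) w' = a • (w' + w))
    (x3 : sm C (conj hF) v1 = a • v1) (x4 : sm C (conj hF) v2 = a • v2)
    (hP : PS 2 (toAut C (conj hF) : MulAut (PSU 4 F 3))) : False := by
  have hμ3 : μ ^ 3 = -μ := by linear_combination μ * hμ
  have e3 : hermForm 4 F 3 w w' = μ := by
    rw [herm_swap hF w' w, g3]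
    linear_combination -hμ3
  have e10 : hermForm 4 F 3 v1 v2 = μ := by
    rw [herm_swap hF v2 v1, g10]
    linear_combination -hμ3
  have e4 := herm_eq_zero_swap hF g4
  have e5 := herm_eq_zero_swap hF g5
  have e6 := herm_eq_zero_swap hF g6
  have e7 := herm_eq_zero_swap hF g7
  let b : Ix → (Fin 4 → F) := Sum.elim ![w, μ • v1] ![w', μ • v2]
  have hb : SB b μ := by
    refine ⟨hμ, ?_⟩
    intro s t
    rcases s with s | s <;> rcases t with t | t <;> fin_cases s <;> fin_cases t <;>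
      simp [b, J, herm_smul_left, herm_smul_right, g1, g2, g3, g4, g5, g6, g7, g8, g9, g10, e3, e4, e5, e6, e7, e10]
    · rw [hμ3]
      linear_combination -μ * hμ
    · rw [hμ3]
      linear_combination -μ * hμ
  refine Cfsg.Agent.H521.SN.SpFour.six order_Z3 (hb.ps hF ha0 Z3 ?_ hP)
  intro u
  have hco : ∀ z : F, conj hF z = z ^ 3 := fun z => rfl
  have c0 : (mp hF Z3.1 *ᵥ cb u) (Sum.inl 0) = u (Sum.inl 0) ^ 3 + u (Sum.inr 0) ^ 3 := by
    simp [mp, Z3, ZM, mulVec, dotProduct, Fintype.sum_sum_type, Fin.sum_univ_two, cb]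
  have c1 : (mp hF Z3.1 *ᵥ cb u) (Sum.inl 1) = -u (Sum.inl 1) ^ 3 := by
    simp [mp, Z3, ZM, mulVec, dotProduct, Fintype.sum_sum_type, Fin.sum_univ_two, cb]
  have c2 : (mp hF Z3.1 *ᵥ cb u) (Sum.inr 0) = u (Sum.inr 0) ^ 3 := by
    simp [mp, Z3, ZM, mulVec, dotProduct, Fintype.sum_sum_type, Fin.sum_univ_two, cb]
  have c3 : (mp hF Z3.1 *ᵥ cb u) (Sum.inr 1) = -u (Sum.inr 1) ^ 3 := by
    simp [mp, Z3, ZM, mulVec, dotProduct, Fintype.sum_sum_type, Fin.sum_univ_two, cb]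
  have hbm : ∀ x : Ix → F, bm b *ᵥ x = (x (Sum.inl 0) • w + x (Sum.inl 1) • μ • v1) +
      (x (Sum.inr 0) • w' + x (Sum.inr 1) • μ • v2) := by
    intro x
    rw [bm_mulVec, Fintype.sum_sum_type, Fin.sum_univ_two, Fin.sum_univ_two]
    rfl
  rw [hbm, hbm, c0, c1, c2, c3]
  simp only [sm_add, sm_smul, x1, x2, x3, x4, hco, hμ3]
  module

end Cfsg.Agent.H500.SN
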