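import Cfsg.Agent.H500.SN.UUni
import Cfsg.Agent.H189.SN.SixMain

/-!
# S3831, `U_n(3)`, `n ≥ 4`: elements of order six (helper500)

* `tv_of_rank_one` : transvections;
* `setup` : the product of a transvection and an involution;
* `lin_case4`, `semi_fam`.
-/

set_option autoImplicit false
set_option linter.unusedSectionVars false

namespace Cfsg.Agent.H500.SN

open Matrix Subgroup Module Cfsg Cfsg.Agent.H459.Rad Cfsg.Agent.H21.SN
open Cfsg.Agent.LieClassical.HermBasic Cfsg.Agent.LieClassical.HermSiegel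
open Cfsg.Agent.ClassicalGeometry.PSUAutBasic Cfsg.Agent.ClassicalGeometry.HermOrtho
open Cfsg.Agent.ClassicalGeometry.PSUAutCount (toAut gm gm_mul gm_one gm_mul_inv gm_inv_mul semiConj guConj act_guConj
  herm_gm gm_inv_mulVec gm_mulVec_inv herm_map gm_inj act_semiConj herm_semi eq_of_toAut_eq sc gm_sc_mul toAut_sc_mul)
open Cfsg.Agent.Schreier.PSU (f₁ f₁_eq_conj)
open Cfsg.Agent.H189.SN (sm sm_def sm_one sm_add sm_smul sm_zero sm_sub herm_sm sm_surjective sm_injective act_semi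
  toAut_pr_eq pow_eq_one_iff gm_pow' gm_ext TV TV.fix TV.fixw TV.cube exists_comp exists_vec_perp finish gram3 gram4 canc
  exists_quad_ne aut_cases pow_nine)

variable {F : Type} [Field F] [Fintype F] {n m : ℕ}

/-- a unipotent element of rank one is a transvection -/
theorem tv_of_rank_one (hF : Fintype.card F = 3 ^ 2) {a : SU n F 3} (ha : a ^ 3 = 1) {A : GU n F 3} (hA : gm A = mat a)
    {u : Fin n → F} (hu : dl a u ≠ 0) (h : ∀ y, ∃ c : F, dl a y = c • dl a u) : ∃ (w : Fin n → F) (μ : F), TV A w μ := by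
  obtain ⟨w, hw⟩ : ∃ w, w = dl a u := ⟨_, rfl⟩
  rw [← hw] at hu h
  obtain ⟨c0, hc0⟩ := h w
  have h1 := dl_cube hF ha u
  rw [← hw, hc0, dl_smul, hc0, smul_smul] at h1
  have hc00 : c0 = 0 := by
    rcases mul_eq_zero.1 ((smul_eq_zero.1 h1).resolve_right hu) with h | h <;> exact h
  have hNw : dl a w = 0 := by rw [hc0, hc00, zero_smul]
  have hN2 : ∀ y, dl a (dl a y) = 0 := by
    intro y
    obtain ⟨c, hc⟩ := h y
    rw [hc, dl_smul, hNw, smul_zero]
  have hNN : ∀ x y, hermForm n F 3 (dl a x) (dl a y) = 0 := by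
    intro x y
    have h := herm_dl hF a (dl a x) y
    rw [hN2, herm_zero_left, herm_zero_left, zero_add, add_zero] at h
    exact h
  have hsk : ∀ x y, hermForm n F 3 (dl a x) y = -hermForm n F 3 x (dl a y) := by
    intro x y
    have h := herm_dl hF a x y
    rw [hNN, add_zero] at h
    exact eq_neg_of_add_eq_zero_left h
  have hww : hermForm n F 3 w w = 0 := by rw [hw]; exact hNN u u
  obtain ⟨δ, hδ⟩ : ∃ δ, δ = hermForm n F 3 w u := ⟨_, rfl⟩
  have hcx : ∀ x c, dl a x = c • w → c * δ = -hermForm n F 3 x w := by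
    intro x c hc
    have h2 := hsk x u
    rw [hc, herm_smul_left, ← hw, ← hδ] at h2
    exact h2
  have hδ0 : δ ≠ 0 := by
    intro h0
    apply hu
    apply herm_nondeg hF
    intro x
    apply herm_eq_zero_swap hF
    obtain ⟨c, hc⟩ := h x
    have h2 := hcx x c hc
    rw [h0, mul_zero] at h2
    exact neg_eq_zero.1 h2.symm
  have hδ3 : δ ^ 3 = -δ := by
    have h2 := hsk u u
    rw [← hw, ← hδ, herm_swap hF w u, ← hδ] at h2
    linear_combination h2
  refine ⟨w, -δ⁻¹, hu, hww, neg_ne_zero.2 (inv_ne_zero hδ0), ?_, ?_⟩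
  · have h2 : (-δ⁻¹) ^ 3 = -(δ⁻¹) ^ 3 := by ring
    rw [h2, inv_pow, hδ3, inv_neg, neg_neg, neg_add_cancel]
  · intro x
    obtain ⟨c, hc⟩ := h x
    rw [hA]
    show act a x = _
    rw [act_eq, hc]
    congr 2
    have h2 := hcx x c hc
    field_simp
    linear_combination h2

/-- **the set-up** -/
theorem setup (hC : Core3) (hL : LrU 3) (hF : Fintype.card F = 3 ^ 2) (hn : 4 ≤ n) {x : MulAut (PSU n F 3)}
    (hx : orderOf x = 6) (hps : PS 2 x) (hrn : RN (x ^ 4)) :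
    ∃ (C U T : GU n F 3) (ρ : F ≃+* F) (c : F) (w : Fin n → F) (μ a : F), x = toAut C ρ ∧ x ^ 3 = toAut T ρ ∧
      (∀ v, sm C ρ v = gm U *ᵥ sm T ρ v) ∧ (∀ v, sm T ρ (gm U *ᵥ v) = gm U *ᵥ sm T ρ v) ∧ c ≠ 0 ∧
      (∀ v, sm T ρ (sm T ρ v) = c • v) ∧ TV U w μ ∧ a ≠ 0 ∧ sm T ρ w = a • w ∧ a ^ 4 * ρ μ = μ := by
  have hx6 : x ^ 6 = 1 := orderOf_dvd_iff_pow_eq_one.1 (by rw [hx])
  have ho4 : orderOf (x ^ 4) = 3 := by rw [orderOf_pow, hx]; rfl
  have hx43 : (x ^ 4) ^ 3 = 1 := orderOf_dvd_iff_pow_eq_one.1 (by rw [ho4])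
  obtain ⟨U, u0, hUu, hUx, hxu, -, hu3⟩ := exists_su hF (by omega) (x := x ^ 4) (by
    rw [show (9 : ℕ) = 3 * 3 by norm_num, pow_mul, hx43, one_pow])
  obtain ⟨u1, hu1, hu1'⟩ := rank_one hC hL hF (by omega) (hu3 hx43) (by
    rintro rfl
    rw [hxu, map_one, map_one, orderOf_one] at ho4
    omega) (hxu ▸ PS.pow hps 4) (hxu ▸ hrn)
  obtain ⟨w, μ, hU⟩ := tv_of_rank_one hF (hu3 hx43) hUu hu1 hu1'
  have hU4 : x ^ 4 = toAut U 1 := hUx
  obtain ⟨T, ρ, hT3⟩ := Cfsg.Agent.ClassicalGeometry.PSUAutMain.exists_toAut hF (by omega) (by norm_num) (x ^ 3)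
  -- the square of `x ^ 3`
  have hsq : (toAut T ρ : MulAut (PSU n F 3)) ^ 2 = 1 := by
    rw [← hT3, ← pow_mul]
    exact hx6
  obtain ⟨-, c, hc⟩ := (pow_eq_one_iff hF (by omega) T ρ 2).1 hsq
  have hT2 : ∀ v, sm T ρ (sm T ρ v) = c • v := hc
  have hc0 : c ≠ 0 := by
    rintro rfl
    have h1 := hT2 w
    rw [zero_smul] at h1
    have h2 : sm T ρ w = 0 := sm_injective T ρ (h1.trans (sm_zero T ρ).symm)
    exact hU.ne (sm_injective T ρ (h2.trans (sm_zero T ρ).symm))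
  -- the products
  obtain ⟨C, hC', hC''⟩ := exists_comp hF U T 1 ρ
  obtain ⟨D, hD, hD'⟩ := exists_comp hF T U ρ 1
  rw [one_mul] at hC' hC''
  rw [mul_one] at hD hD'
  simp only [sm_one] at hC' hD
  have hxC : x = toAut C ρ := by
    rw [hC'', ← hU4, ← hT3, ← pow_add]
    calc x = x ^ 6 * x := by rw [hx6, one_mul]
      _ = x ^ (4 + 3) := by rw [← pow_succ]
  have hCD : (toAut C ρ : MulAut (PSU n F 3)) = toAut D ρ := by
    rw [hC'', hD', ← hU4, ← hT3, ← pow_add, ← pow_add]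
  obtain ⟨-, d, -, hd⟩ := eq_of_toAut_eq hF (by omega) hCD
  have hcom0 : ∀ v, sm T ρ (gm U *ᵥ v) = d • (gm U *ᵥ sm T ρ v) := by
    intro v
    rw [← hD, ← hC', sm_def, sm_def, hd, smul_mulVec]
  -- `d = 1`
  obtain ⟨w1, hw1⟩ := sm_surjective T ρ w
  obtain ⟨z, hz0, hz1, hz2⟩ := exists_vec_perp hF (by omega) w w1
  have hd1 : d = 1 := by
    have h1 := hcom0 z
    have h2 : hermForm n F 3 (sm T ρ z) w = 0 := by rw [← hw1, herm_sm, hz2, map_zero]
    rw [hU.fix hz1, hU.fix h2] at h1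
    have h5 : (d - 1) • sm T ρ z = 0 := by rw [sub_smul, one_smul, ← h1, sub_self]
    rcases smul_eq_zero.1 h5 with h6 | h6
    · exact sub_eq_zero.1 h6
    · exact absurd (sm_injective T ρ (h6.trans (sm_zero T ρ).symm)) hz0
  have hcom : ∀ v, sm T ρ (gm U *ᵥ v) = gm U *ᵥ sm T ρ v := by
    intro v
    rw [hcom0, hd1, one_smul]
  have hk : ∀ v, ρ (μ * hermForm n F 3 v w) • sm T ρ w = (μ * hermForm n F 3 (sm T ρ v) w) • w := by
    intro v
    have h1 := hcom v
    rw [hU.eq, hU.eq, sm_add, sm_smul] at h1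
    exact add_left_cancel h1
  obtain ⟨u, hu⟩ : ∃ u, hermForm n F 3 u w ≠ 0 := by
    obtain ⟨u, hu⟩ := exists_herm_ne_zero hF hU.ne
    exact ⟨u, fun h => hu (herm_eq_zero_swap hF h)⟩
  have hρu : ρ (μ * hermForm n F 3 u w) ≠ 0 := (map_ne_zero ρ).2 (mul_ne_zero hU.mu hu)
  obtain ⟨a, ha⟩ : ∃ a : F, sm T ρ w = a • w := by
    refine ⟨(ρ (μ * hermForm n F 3 u w))⁻¹ * (μ * hermForm n F 3 (sm T ρ u) w), ?_⟩
    rw [← smul_smul, ← hk, smul_smul, inv_mul_cancel₀ hρu, one_smul]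
  have ha0 : a ≠ 0 := by
    rintro rfl
    rw [zero_smul] at ha
    exact hU.ne (sm_injective T ρ (ha.trans (sm_zero T ρ).symm))
  have ha4 : a ^ 4 * ρ μ = μ := by
    have h1 := hk u
    rw [ha, smul_smul] at h1
    have h2 : (ρ (μ * hermForm n F 3 u w) * a - μ * hermForm n F 3 (sm T ρ u) w) • w = 0 := by
      rw [sub_smul, h1, sub_self]
    have h5 : ρ (μ * hermForm n F 3 u w) * a = μ * hermForm n F 3 (sm T ρ u) w := by
      rcases smul_eq_zero.1 h2 with h6 | h6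
      · exact sub_eq_zero.1 h6
      · exact absurd h6 hU.ne
    have h6 : a ^ 3 * hermForm n F 3 (sm T ρ u) w = ρ (hermForm n F 3 u w) := by
      rw [← herm_sm T ρ u w, ha, herm_smul_right]
    have h7 : ρ (hermForm n F 3 u w) ≠ 0 := (map_ne_zero ρ).2 hu
    rw [map_mul] at h5
    apply mul_right_cancel₀ h7
    linear_combination a ^ 3 * h5 + μ * h6
  have hμ3 : μ ^ 3 = -μ := by linear_combination hU.tr
  exact ⟨C, U, T, ρ, c, w, μ, a, hxC, hT3, hC', hcom, hc0, hT2, hU, ha0, ha, ha4⟩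

/-- the linear case (helper189's `lin_case`, for `n ≥ 4`) -/
theorem lin_case4 (hF : Fintype.card F = 3 ^ 2) (hn : 4 ≤ n) {C U T : GU n F 3}
    (hC : ∀ v, sm C 1 v = gm U *ᵥ sm T 1 v) (hcom : ∀ v, sm T 1 (gm U *ᵥ v) = gm U *ᵥ sm T 1 v) {c : F} (hc : c ≠ 0)
    (hT2 : ∀ v, sm T 1 (sm T 1 v) = c • v) {w : Fin n → F} {μ : F} (hU : TV U w μ) {a : F} (ha0 : a ≠ 0)
    (ha : sm T 1 w = a • w) (ha4 : a ^ 4 = 1) (hTs : ∃ z, sm T 1 z ≠ a • z)
    (hx : (toAut C 1 : MulAut (PSU n F 3)) ^ 6 = 1) (hps : PS 2 (toAut C 1 : MulAut (PSU n F 3))) :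
    ∃ y : MulAut (PSU 3 F 3), orderOf y = 6 ∧ PS 2 y := by
  have h2 := two_ne hF
  -- `c = a ^ 2`
  have hca : c = a ^ 2 := by
    have h1 := hT2 w
    rw [ha, sm_smul, ha, smul_smul] at h1
    have h3 : (a ^ 2 - c) • w = 0 := by
      rw [sub_smul, ← h1, pow_two]
      exact sub_self _
    rcases smul_eq_zero.1 h3 with h4 | h4
    · exact (sub_eq_zero.1 h4).symm
    · exact absurd h4 hU.ne
  have hai : a⁻¹ * a = 1 := inv_mul_cancel₀ ha0
  have hai3 : a⁻¹ * a ^ 2 = a := by rw [pow_two, ← mul_assoc, hai, one_mul]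
  have hH : ∀ u v : Fin n → F, hermForm n F 3 (sm T 1 u) (sm T 1 v) = hermForm n F 3 u v := fun u v => herm_sm T 1 u v
  have hs1 : ∀ (e : F) (v : Fin n → F), sm T 1 (e • v) = e • sm T 1 v := fun e v => sm_smul T 1 e v
  -- `w'`
  obtain ⟨u, hu⟩ : ∃ u, hermForm n F 3 u w ≠ 0 := by
    obtain ⟨u, hu⟩ := exists_herm_ne_zero hF hU.ne
    exact ⟨u, fun h => hu (herm_eq_zero_swap hF h)⟩
  set w' := u + a⁻¹ • sm T 1 u with hw'
  have hTw' : sm T 1 w' = a • w' := by
    rw [hw', sm_add, hs1, hT2, hca, smul_smul, hai3, smul_add, smul_smul, mul_inv_cancel₀ ha0, one_smul, add_comm]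
  have hsu : a ^ 3 * hermForm n F 3 (sm T 1 u) w = hermForm n F 3 u w := by
    rw [← hH u w, ha, herm_smul_right]
  have hw'w : hermForm n F 3 w' w ≠ 0 := by
    have h4 : hermForm n F 3 w' w = 2 * hermForm n F 3 u w := by
      rw [hw', herm_add_left, herm_smul_left, ← hsu]
      have h5 : a⁻¹ = a ^ 3 := by
        rw [inv_eq_iff_eq_inv]
        exact eq_inv_of_mul_eq_one_left (by linear_combination ha4)
      rw [h5]
      ring
    rw [h4]
    exact mul_ne_zero h2 hu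
  -- `v`
  set P : Matrix (Fin n) (Fin n) F := 1 - a⁻¹ • gm T with hP
  have hPv : ∀ v, P *ᵥ v = v - a⁻¹ • sm T 1 v := by
    intro v
    rw [hP, sub_mulVec, one_mulVec, smul_mulVec, sm_one]
  have hP0 : P ≠ 0 := by
    intro h
    obtain ⟨z, hz⟩ := hTs
    apply hz
    have h1 := hPv z
    rw [h, zero_mulVec] at h1
    have h4 : z = a⁻¹ • sm T 1 z := sub_eq_zero.1 h1.symm
    calc sm T 1 z = a • (a⁻¹ • sm T 1 z) := by rw [smul_smul, mul_inv_cancel₀ ha0, one_smul]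
      _ = a • z := by rw [← h4]
  obtain ⟨z, hz⟩ := exists_quad_ne hF hP0
  set v := P *ᵥ z with hv
  have hvz : v = z - a⁻¹ • sm T 1 z := hPv z
  have hTv : sm T 1 v = (-a) • v := by
    rw [hvz, sm_sub, hs1, hT2, hca, smul_smul, hai3, smul_sub, smul_smul, neg_mul, mul_inv_cancel₀ ha0, neg_smul,
      neg_smul, one_smul]
    abel
  have ha4' : a * a ^ 3 = 1 := by linear_combination ha4
  have hvv : hermForm n F 3 v v ≠ 0 := by
    have h5 : hermForm n F 3 v v = 2 * hermForm n F 3 z v := by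
      -- `(a⁻¹ T z, v) = -(z, v)`
      have h6 : hermForm n F 3 (sm T 1 z) v = -(a * hermForm n F 3 z v) := by
        have h7 := hH z v
        rw [hTv, herm_smul_right] at h7
        have h8 : (-a) ^ 3 = -a ^ 3 := by ring
        rw [h8] at h7
        linear_combination (-a) * h7 - hermForm n F 3 (sm T 1 z) v * ha4'
      have h9 : hermForm n F 3 v v = hermForm n F 3 z v - a⁻¹ * hermForm n F 3 (sm T 1 z) v := by
        conv_lhs => rw [hvz]
        rw [herm_sub_left, herm_smul_left, ← hvz]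
      rw [h9, h6]
      linear_combination hermForm n F 3 z v * hai
    rw [h5]
    exact mul_ne_zero h2 hz
  have horth : ∀ x : Fin n → F, sm T 1 x = a • x → hermForm n F 3 v x = 0 := by
    intro x hx
    have h5 := hH v x
    rw [hTv, hx, herm_smul_left, herm_smul_right] at h5
    have h6 : hermForm n F 3 v x * 2 = 0 := by
      linear_combination -h5 - hermForm n F 3 v x * ha4'
    rcases mul_eq_zero.1 h6 with h | h
    · exact h
    · exact absurd h h2
  have o1 := horth w ha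
  have o2 := horth w' hTw'
  have o3 := herm_eq_zero_swap hF o1
  have o4 := herm_eq_zero_swap hF o2
  have hww := hU.iso
  set ε := hermForm n F 3 w w' with hε
  have hε0 : ε ≠ 0 := fun h => hw'w (herm_eq_zero_swap hF h)
  have hv0 : v ≠ 0 := by
    intro h
    exact hvv (by rw [h, herm_zero_left])
  refine finish hF le_rfl (by omega) hC hcom hc hT2 hU ![w, w', v] 0 1 rfl hw'w ?_ (gram3 ?_) (Or.inr
    ⟨0, 2, a, -a, hU.ne, hv0, ?_, ha, hTv⟩) hx hps
  · intro i
    fin_cases i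
    · exact ⟨a, ha⟩
    · exact ⟨a, hTw'⟩
    · exact ⟨-a, hTv⟩
  · intro a0 a1 a2 c0 c1 c2
    simp only [herm_add_left, herm_smul_left, o1, o2, o3, o4, hww, ← hε] at c0 c1 c2
    have d1 : a1 = 0 := canc hw'w (by linear_combination c0)
    rw [d1] at c1
    have d0 : a0 = 0 := canc hε0 (by linear_combination c1)
    exact ⟨d0, d1, canc hvv (by linear_combination c2)⟩
  · intro h
    have h6 : 2 * a = 0 := by linear_combination h
    rcases mul_eq_zero.1 h6 with h7 | h7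
    · exact h2 h7
    · exact ha0 h7

end Cfsg.Agent.H500.SN
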