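import Cfsg.Agent.H500.SN.UBase
import Cfsg.Agent.H21.SN.Lr

/-!
# S3831, `U_n(3)`: the Jordan types of unipotent elements (helper500)

* `dl a x = a x - x`;
* `no_rank_two` : `a ^ 3 = 1`, `(a - 1) ^ 2 = 0`, rank at least two: not `PS 2`;
* `no_J3` : `(a - 1) ^ 2 ≠ 0`: not `PS 2` (by the result for `n = 3`);
* `no_J4` : `(a - 1) ^ 4 = 0`, `(a - 1) ^ 3 ≠ 0`: not `PS 2`.
-/

set_option autoImplicit false
set_option linter.unusedSectionVars false

namespace Cfsg.Agent.H500.SN

open Matrix Subgroup Module Cfsg Cfsg.Agent.H459.Rad Cfsg.Agent.H21.SN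
open Cfsg.Agent.LieClassical.HermBasic Cfsg.Agent.LieClassical.HermSiegel
open Cfsg.Agent.ClassicalGeometry.PSUAutBasic Cfsg.Agent.ClassicalGeometry.HermOrtho
open Cfsg.Agent.ClassicalGeometry.PSUAutCount (toAut gm gm_mul gm_one gm_mul_inv gm_inv_mul semiConj guConj act_guConj
  herm_gm gm_inv_mulVec gm_mulVec_inv herm_map gm_inj act_semiConj herm_semi eq_of_toAut_eq)
open Cfsg.Agent.Schreier.PSU (f₁ f₁_eq_conj)
open Cfsg.Agent.H189.SN (sm sm_def sm_one sm_add sm_smul sm_zero sm_sub herm_sm sm_surjective sm_injective act_semi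
  toAut_pr_eq pow_eq_one_iff gm_pow' gm_ext)

variable {F : Type} [Field F] [Fintype F] {q n : ℕ}

/-- `a - 1` -/
def dl (a : SU n F q) (x : Fin n → F) : Fin n → F := act a x - x

theorem act_eq (a : SU n F q) (x : Fin n → F) : act a x = x + dl a x := by
  rw [dl, add_sub_cancel]

theorem dl_add (a : SU n F q) (x y : Fin n → F) : dl a (x + y) = dl a x + dl a y := by
  simp only [dl, act_add]
  abel

theorem dl_smul (a : SU n F q) (c : F) (x : Fin n → F) : dl a (c • x) = c • dl a x := by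
  rw [dl, dl, act_smul, smul_sub]

theorem dl_zero (a : SU n F q) : dl a 0 = 0 := by
  rw [dl, act_zero, sub_zero]

/-- the relation of isometries -/
theorem herm_dl (hF : Fintype.card F = q ^ 2) (a : SU n F q) (x y : Fin n → F) :
    hermForm n F q (dl a x) y + hermForm n F q x (dl a y) + hermForm n F q (dl a x) (dl a y) = 0 := by
  have h := herm_act a x y
  rw [act_eq, act_eq, herm_add_left, herm_add_right hF, herm_add_right hF] at h
  linear_combination h

theorem herm_dl_zero_left (hF : Fintype.card F = q ^ 2) (a : SU n F q) {x y : Fin n → F}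
    (h1 : hermForm n F q (dl a x) y = 0) (h2 : hermForm n F q (dl a x) (dl a y) = 0) :
    hermForm n F q x (dl a y) = 0 := by
  have h := herm_dl hF a x y
  rw [h1, h2, zero_add, add_zero] at h
  exact h

theorem dl_cube (hF : Fintype.card F = 3 ^ 2) {a : SU n F 3} (h : a ^ 3 = 1) (x : Fin n → F) :
    dl a (dl a (dl a x)) = 0 := by
  have h1 : act a (act a (act a x)) = x := by
    rw [← act_mul, ← act_mul, ← pow_two, ← pow_succ, h, act_one]
  have h3 := three_eq hF
  have h4 : dl a (dl a (dl a x)) = act a (act a (act a x)) - (3 : F) • act a (act a x) + (3 : F) • act a x - x := by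
    simp only [dl, act_sub]
    module
  rw [h4, h3, h1, zero_smul, zero_smul]
  simp

/-- **`J₂²`** -/
theorem no_rank_two (hC : Core3) (hF : Fintype.card F = 3 ^ 2) (hn : 3 ≤ n) {a : SU n F 3}
    (h2 : ∀ x, dl a (dl a x) = 0) {u u' : Fin n → F} (hu : dl a u ≠ 0) (huu' : ∀ c : F, dl a u' ≠ c • dl a u)
    (hP : PS 2 (MulAut.conj (pr n F 3 a))) : False := by
  -- the form `h (N x, y)`
  have hNN : ∀ x y, hermForm n F 3 (dl a x) (dl a y) = 0 := by
    intro x y
    have h := herm_dl hF a (dl a x) y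
    rw [h2, herm_zero_left, herm_zero_left, zero_add, add_zero] at h
    exact h
  have hsk : ∀ x y, hermForm n F 3 (dl a x) y = -(hermForm n F 3 (dl a y) x) ^ 3 := by
    intro x y
    have h := herm_dl hF a x y
    rw [hNN, add_zero] at h
    rw [← herm_swap hF]
    exact eq_neg_of_add_eq_zero_left h
  -- an isotropic vector of this form
  obtain ⟨v, hv0, hv⟩ : ∃ v, dl a v ≠ 0 ∧ hermForm n F 3 (dl a v) v = 0 := by
    by_cases huz : hermForm n F 3 (dl a u) u = 0
    · exact ⟨u, hu, huz⟩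
    set g := hermForm n F 3 (dl a u) u with hg
    have hg3 : g ^ 3 = -g := by rw [eq_neg_iff_add_eq_zero]; have := hsk u u; linear_combination this
    set w := u' - (hermForm n F 3 (dl a u') u / g) • u with hw
    have hwN : dl a w = dl a u' - (hermForm n F 3 (dl a u') u / g) • dl a u := by
      have : w = u' + (-(hermForm n F 3 (dl a u') u / g)) • u := by rw [hw, neg_smul, sub_eq_add_neg]
      rw [this, dl_add, dl_smul, neg_smul, sub_eq_add_neg]
    have hwu : hermForm n F 3 (dl a w) u = 0 := by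
      rw [hwN, herm_sub_left, herm_smul_left, ← hg, div_mul_cancel₀ _ huz, sub_self]
    have huw : hermForm n F 3 (dl a u) w = 0 := by
      rw [hsk, hwu, zero_pow_q hF, neg_zero]
    set d := hermForm n F 3 (dl a w) w with hd
    have hd3 : d ^ 3 = -d := by rw [eq_neg_iff_add_eq_zero]; have := hsk w w; linear_combination this
    obtain ⟨s, hs⟩ := exists_norm_eq hF (c := -(d / g)) (by
      rw [neg_pow_q hF, div_pow, hd3, hg3, neg_div_neg_eq])
    refine ⟨s • u + w, ?_, ?_⟩
    · rw [dl_add, dl_smul, hwN]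
      intro h
      apply huu' (hermForm n F 3 (dl a u') u / g - s)
      rw [← sub_eq_zero]
      rw [← h]
      module
    · rw [dl_add, dl_smul, herm_add_left, herm_smul_left, herm_add_right hF, herm_add_right hF, herm_smul_right,
        herm_smul_right, hwu, huw, ← hg, ← hd, mul_zero, add_zero, zero_add]
      have : s * (s ^ 3 * g) = s * s ^ 3 * g := by ring
      rw [this, hs]
      field_simp
      ring
  -- make it isotropic
  obtain ⟨t, ht⟩ := exists_trace_eq hF (c := -hermForm n F 3 v v) (by rw [neg_pow_q hF, herm_self_pow hF])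
  obtain ⟨y0, hy0⟩ := exists_herm_ne_zero hF hv0
  obtain ⟨y, hy⟩ : ∃ y, hermForm n F 3 (dl a y) v = t := by
    have h3 : hermForm n F 3 (dl a y0) v ≠ 0 := by
      rw [hsk]
      intro h
      exact hy0 ((pow_q_eq_zero hF).1 (neg_eq_zero.1 h))
    exact ⟨(t / hermForm n F 3 (dl a y0) v) • y0, by rw [dl_smul, herm_smul_left, div_mul_cancel₀ _ h3]⟩
  have hN : dl a (v + dl a y) = dl a v := by rw [dl_add, h2, add_zero]
  refine no_J hC hF hn (u := dl a v) (v := v + dl a y) hv0 (hNN v v) ?_ ?_ ?_ ?_ hP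
  · rw [herm_add_right hF, hv, hNN, add_zero]
  · rw [herm_add_left, herm_add_right hF, herm_add_right hF, hNN, add_zero, hy,
      herm_swap hF (dl a y) v, hy]
    linear_combination ht
  · rw [act_eq, h2, add_zero]
  · rw [act_eq, hN]

/-- **`J₄`** -/
theorem no_J4 (hC : Core3) (hF : Fintype.card F = 3 ^ 2) (hn : 3 ≤ n) {a : SU n F 3} {x : Fin n → F}
    (h4 : dl a (dl a (dl a (dl a x))) = 0) (h3 : dl a (dl a (dl a x)) ≠ 0)
    (hP : PS 2 (MulAut.conj (pr n F 3 a))) : False := by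
  obtain ⟨x1, hx1⟩ : ∃ y, y = dl a x := ⟨_, rfl⟩
  obtain ⟨x2, hx2⟩ : ∃ y, y = dl a x1 := ⟨_, rfl⟩
  obtain ⟨x3, hx3⟩ : ∃ y, y = dl a x2 := ⟨_, rfl⟩
  rw [← hx1, ← hx2, ← hx3] at h4 h3
  have r33 := herm_dl hF a x3 x2
  have r32 := herm_dl hF a x3 x1
  have r22 := herm_dl hF a x2 x1
  rw [h4, ← hx3, herm_zero_left, herm_zero_left, zero_add, add_zero] at r33
  rw [h4, ← hx2, herm_zero_left, herm_zero_left, zero_add, add_zero] at r32
  rw [← hx3, ← hx2, r32, add_zero] at r22
  have r31 := herm_dl hF a x3 x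
  rw [h4, ← hx1, herm_zero_left, herm_zero_left, zero_add, add_zero] at r31
  rw [r31, zero_add] at r22
  refine no_J hC hF hn (u := x3) (v := x2) h3 r33 r32 r22 ?_ ?_ hP
  · rw [act_eq, h4, add_zero]
  · rw [act_eq, ← hx3]

/-- subspaces with a basis with invertible Gram matrix -/
theorem sub_of_basis {m : ℕ} {b : Fin m → (Fin n → F)}
    (H : ∀ c : Fin m → F, (∀ j, hermForm n F q (∑ i, c i • b i) (b j) = 0) → c = 0) :
    finrank F (Submodule.span F (Set.range b)) = m ∧
      ∀ u ∈ Submodule.span F (Set.range b), (∀ v ∈ Submodule.span F (Set.range b), hermForm n F q u v = 0) → u = 0 := by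
  constructor
  · have hli : LinearIndependent F b := by
      rw [Fintype.linearIndependent_iff]
      intro c hc
      have := H c fun j => by rw [hc, herm_zero_left]
      intro i
      rw [this]
      rfl
    rw [finrank_span_eq_card hli, Fintype.card_fin]
  · intro u hu h
    rw [Submodule.mem_span_range_iff_exists_fun] at hu
    obtain ⟨c, rfl⟩ := hu
    have := H c fun j => h _ (Submodule.subset_span ⟨j, rfl⟩)
    rw [this]
    simp

/-- invariance of a span under a semilinear map -/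
theorem inv_of_basis {m : ℕ} {b : Fin m → (Fin n → F)} {A : GU n F q} {ρ : F ≃+* F}
    (h : ∀ i, sm A ρ (b i) ∈ Submodule.span F (Set.range b)) :
    ∀ w ∈ Submodule.span F (Set.range b), sm A ρ w ∈ Submodule.span F (Set.range b) := by
  intro w hw
  rw [Submodule.mem_span_range_iff_exists_fun] at hw
  obtain ⟨c, rfl⟩ := hw
  rw [Cfsg.Agent.H189.SN.sm_sum]
  refine Submodule.sum_mem _ fun i _ => ?_
  rw [sm_smul]
  exact Submodule.smul_mem _ _ (h i)

/-- **`J₃`** -/
theorem no_J3 (hL : LrU 3) (hF : Fintype.card F = 3 ^ 2) (hn : 3 ≤ n) {A : GU n F 3} {a : SU n F 3} (hA : gm A = mat a)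
    (ha : a ^ 3 = 1) {x0 : Fin n → F} (hx0 : dl a (dl a x0) ≠ 0) (hP : PS 2 (toAut A 1 : MulAut (PSU n F 3)))
    (hR : RN (toAut A 1 : MulAut (PSU n F 3))) : False := by
  have hcube := dl_cube hF ha
  have h21 : ∀ x y, hermForm n F 3 (dl a (dl a x)) (dl a y) = 0 := by
    intro x y
    have h := herm_dl hF a (dl a (dl a x)) y
    rw [hcube, herm_zero_left, herm_zero_left, zero_add, add_zero] at h
    exact h
  have h12 : ∀ x y, hermForm n F 3 (dl a x) (dl a (dl a y)) = 0 := fun x y => herm_eq_zero_swap hF (h21 y x)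
  have h11 : ∀ x y, hermForm n F 3 (dl a (dl a x)) y = -hermForm n F 3 (dl a x) (dl a y) := by
    intro x y
    have h := herm_dl hF a (dl a x) y
    rw [h21, add_zero] at h
    exact eq_neg_of_add_eq_zero_left h
  have h11' : ∀ x y, hermForm n F 3 x (dl a (dl a y)) = -hermForm n F 3 (dl a x) (dl a y) := by
    intro x y
    have h := herm_dl hF a x (dl a y)
    rw [h12, add_zero] at h
    exact eq_neg_of_add_eq_zero_right h
  -- a vector `x` with `h (N² x, x) ≠ 0`
  obtain ⟨x, hx⟩ : ∃ x, hermForm n F 3 (dl a (dl a x)) x ≠ 0 := by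
    by_contra hcon
    push Not at hcon
    apply hx0
    apply herm_nondeg hF
    intro y
    apply eq_zero_of_forall_trace hF
    intro c
    have h1 := hcon (c • x0 + y)
    rw [dl_add, dl_add, dl_smul, dl_smul, herm_add_left, herm_add_right hF, herm_add_right hF, hcon y, add_zero,
      herm_smul_left, herm_smul_left, herm_smul_right, hcon x0, mul_zero, mul_zero, zero_add, herm_smul_right] at h1
    have h2 : hermForm n F 3 (dl a (dl a y)) x0 = (hermForm n F 3 (dl a (dl a x0)) y) ^ 3 := by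
      rw [h11, ← h11', herm_swap hF]
    rw [h2] at h1
    linear_combination h1
  obtain ⟨x1, hx1⟩ : ∃ y, y = dl a x := ⟨_, rfl⟩
  obtain ⟨x2, hx2⟩ : ∃ y, y = dl a x1 := ⟨_, rfl⟩
  have hx3 : dl a x2 = 0 := by rw [hx2, hx1, hcube]
  have g21 : hermForm n F 3 x2 x1 = 0 := by rw [hx2, hx1]; exact h21 _ _
  have g22 : hermForm n F 3 x2 x2 = 0 := by rw [hx2, hx1]; exact h21 _ _
  have g12 : hermForm n F 3 x1 x2 = 0 := herm_eq_zero_swap hF g21
  have g11 : hermForm n F 3 x2 x = -hermForm n F 3 x1 x1 := by rw [hx2, hx1]; exact h11 _ _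
  rw [← hx1, ← hx2] at hx
  have g02 : hermForm n F 3 x x2 ≠ 0 := fun h => hx (herm_eq_zero_swap hF h)
  have g11' : hermForm n F 3 x1 x1 ≠ 0 := by
    intro h
    rw [g11, h, neg_zero] at hx
    exact hx rfl
  -- the subspace
  set b : Fin 3 → (Fin n → F) := ![x, x1, x2] with hb
  obtain ⟨hm, hW⟩ := sub_of_basis (q := 3) (b := b) (by
    intro c hc
    have e2 := hc 2
    have e1 := hc 1
    have e0 := hc 0
    simp only [hb, Fin.sum_univ_three, herm_add_left, herm_smul_left, Matrix.cons_val_zero, Matrix.cons_val_one,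
      Matrix.cons_val, g22, g21, g12, mul_zero, add_zero] at e2 e1 e0
    have c0 : c 0 = 0 := (mul_eq_zero.1 e2).resolve_right g02
    rw [c0, zero_mul, zero_add] at e1
    have c1 : c 1 = 0 := (mul_eq_zero.1 e1).resolve_right g11'
    rw [c0, c1, zero_mul, zero_mul, zero_add, zero_add] at e0
    have c2 : c 2 = 0 := (mul_eq_zero.1 e0).resolve_right hx
    funext i
    fin_cases i
    · exact c0
    · exact c1
    · exact c2)
  have hsm : ∀ w, sm A (1 : F ≃+* F) w = act a w := by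
    intro w
    rw [sm_one, hA]
    rfl
  have m0 : x ∈ Submodule.span F (Set.range b) := Submodule.subset_span ⟨0, rfl⟩
  have m1 : x1 ∈ Submodule.span F (Set.range b) := Submodule.subset_span ⟨1, rfl⟩
  have m2 : x2 ∈ Submodule.span F (Set.range b) := Submodule.subset_span ⟨2, rfl⟩
  have a0 : act a x = x + x1 := by rw [act_eq, hx1]
  have a1 : act a x1 = x1 + x2 := by rw [act_eq, hx2]
  have a2 : act a x2 = x2 := by rw [act_eq, hx3, add_zero]
  obtain ⟨T, B, hTi, hTW, hTh, hTB, hPB, hRB⟩ := Cfsg.Agent.H154.SN.exists_sub hF hn (A := A) (ρ := 1) hW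
    (inv_of_basis (by
      intro i
      rw [hsm]
      fin_cases i
      · show act a x ∈ _
        rw [a0]
        exact Submodule.add_mem _ m0 m1
      · show act a x1 ∈ _
        rw [a1]
        exact Submodule.add_mem _ m1 m2
      · show act a x2 ∈ _
        rw [a2]
        exact m2)) hm
  have hTB' : ∀ u, act a (T u) = T (gm B *ᵥ u) := by
    intro u
    rw [← hsm]
    exact hTB u
  rw [← hTW] at m0 m1 m2
  obtain ⟨y0, hy0⟩ := m0
  obtain ⟨y1, hy1⟩ := m1
  obtain ⟨y2, hy2⟩ := m2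
  have b0 : gm B *ᵥ y0 = y0 + y1 := hTi (by rw [← hTB', map_add, hy0, hy1, a0])
  have b1 : gm B *ᵥ y1 = y1 + y2 := hTi (by rw [← hTB', map_add, hy1, hy2, a1])
  have b2 : gm B *ᵥ y2 = y2 := hTi (by rw [← hTB', hy2, a2])
  -- independence
  have hx20 : x2 ≠ 0 := by
    rintro rfl
    exact hx (herm_zero_left _)
  have hy20 : y2 ≠ 0 := by
    rintro rfl
    rw [map_zero] at hy2
    exact hx20 hy2.symm
  have hind : ∀ s t : F, s • y1 + t • y2 = 0 → s = 0 ∧ t = 0 := by
    intro s t h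
    have h1 : gm B *ᵥ (s • y1 + t • y2) = 0 := by rw [h, mulVec_zero]
    rw [mulVec_add, mulVec_smul, mulVec_smul, b1, b2] at h1
    have h2 : s • y2 = 0 := by
      calc s • y2 = (s • (y1 + y2) + t • y2) - (s • y1 + t • y2) := by module
        _ = 0 := by rw [h1, h, sub_zero]
    have hs : s = 0 := (smul_eq_zero.1 h2).resolve_right hy20
    rw [hs, zero_smul, zero_add] at h
    exact ⟨hs, (smul_eq_zero.1 h).resolve_right hy20⟩
  -- the order
  have hiter : ∀ k u, T ((sm B (1 : F ≃+* F))^[k] u) = act (a ^ k) (T u) := by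
    intro k
    induction k with
    | zero => intro u; rw [pow_zero, act_one]; rfl
    | succ k ih => intro u; rw [Function.iterate_succ_apply, ih, sm_one, ← hTB', pow_succ, act_mul]
  have ho : orderOf (toAut B 1 : MulAut (PSU 3 F 3)) = 3 := by
    refine orderOf_eq_prime ?_ ?_
    · rw [pow_eq_one_iff hF le_rfl]
      exact ⟨one_pow _, 1, fun u => hTi (by rw [hiter, ha, act_one, one_smul])⟩
    · intro h
      have h1 : (toAut B 1 : MulAut (PSU 3 F 3)) ^ 1 = 1 := by rw [pow_one, h]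
      rw [pow_eq_one_iff hF le_rfl] at h1
      obtain ⟨-, c, hc⟩ := h1
      have h2 := hc y1
      have h3 := hc y2
      change gm B *ᵥ y1 = c • y1 at h2
      change gm B *ᵥ y2 = c • y2 at h3
      rw [b1] at h2
      have h4 := hind (1 - c) 1 (by
        rw [sub_smul, one_smul, one_smul]
        calc y1 - c • y1 + y2 = (y1 + y2) - c • y1 := by abel
          _ = 0 := by rw [h2, sub_self])
      exact one_ne_zero h4.2
  obtain ⟨C, v, w, hCm, hCB⟩ := hL F hF (toAut B 1) ho (hPB 2 hP) (hRB hR)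
  -- compare
  obtain ⟨C', hC', hC'm⟩ := exists_GU_of_isometry (M := mat C) hF (fun u v => herm_act C u v)
  have h1 : (toAut (⟨C', hC'⟩ : GU 3 F 3) 1 : MulAut (PSU 3 F 3)) = toAut B 1 := by
    rw [hCB]
    exact f₁_eq_conj (⟨C', hC'⟩ : GU 3 F 3) C hC'm
  obtain ⟨-, c, hcc, hc⟩ := eq_of_toAut_eq hF le_rfl h1
  have hCy : ∀ y, gm B *ᵥ y = c • (y + (w ⬝ᵥ y) • v) := by
    intro y
    have h2 : gm (⟨C', hC'⟩ : GU 3 F 3) = 1 + vecMulVec v w := by rw [← hCm]; exact hC'm
    rw [hc, h2, smul_mulVec, add_mulVec, one_mulVec, vecMulVec_mulVec, op_smul_eq_smul]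
  have hc0 : c ≠ 0 := by
    rintro rfl
    rw [zero_mul] at hcc
    exact zero_ne_one hcc
  have e0 := hCy y0
  have e1 := hCy y1
  have e2 := hCy y2
  rw [b0] at e0
  rw [b1] at e1
  rw [b2] at e2
  obtain ⟨s0, hs0⟩ : ∃ s, s = w ⬝ᵥ y0 := ⟨_, rfl⟩
  obtain ⟨s1, hs1⟩ : ∃ s, s = w ⬝ᵥ y1 := ⟨_, rfl⟩
  obtain ⟨s2, hs2⟩ : ∃ s, s = w ⬝ᵥ y2 := ⟨_, rfl⟩
  rw [← hs0] at e0
  rw [← hs1] at e1
  rw [← hs2] at e2
  -- `c = 1`
  have k1 := hind (s2 * (1 - c)) (s2 - s1 * (1 - c)) (by
    have f1 : (1 - c) • y1 + y2 = (c * s1) • v := by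
      calc (1 - c) • y1 + y2 = (y1 + y2) - c • y1 := by module
        _ = _ := by rw [e1]; module
    have f2 : (1 - c) • y2 = (c * s2) • v := by
      calc (1 - c) • y2 = y2 - c • y2 := by module
        _ = (c • (y2 + s2 • v)) - c • y2 := by rw [← e2]
        _ = _ := by module
    calc (s2 * (1 - c)) • y1 + (s2 - s1 * (1 - c)) • y2 = s2 • ((1 - c) • y1 + y2) - s1 • ((1 - c) • y2) := by module
      _ = 0 := by rw [f1, f2]; module)
  have hc1 : c = 1 := by
    by_contra hne
    have h3 : 1 - c ≠ 0 := fun h => hne (sub_eq_zero.1 h).symm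
    have h4 : s2 = 0 := (mul_eq_zero.1 k1.1).resolve_right h3
    rw [h4, zero_smul, add_zero] at e2
    have h5 : (1 - c) • y2 = 0 := by rw [sub_smul, one_smul, ← e2, sub_self]
    exact (smul_eq_zero.1 h5).elim h3 hy20
  rw [hc1, one_smul] at e0 e1 e2
  have f0 : y1 = s0 • v := add_left_cancel e0
  have f1 : y2 = s1 • v := add_left_cancel e1
  have k2 := hind s1 (-s0) (by rw [f0, f1]; module)
  rw [k2.1, zero_smul] at f1
  exact hy20 f1

/-- rank one -/
theorem mat_eq_of_rank_one {a : SU n F q} {v : Fin n → F} (h : ∀ y, ∃ c : F, dl a y = c • v) :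
    ∃ w : Fin n → F, mat a = 1 + vecMulVec v w := by
  choose c hc using h
  refine ⟨fun j => c (Pi.single j 1), ?_⟩
  ext i j
  have h1 := congrFun (hc (Pi.single j 1)) i
  rw [dl, Pi.sub_apply, act_single, Pi.smul_apply, smul_eq_mul] at h1
  rw [Matrix.add_apply, vecMulVec_apply, Matrix.one_apply]
  rw [Pi.single_apply] at h1
  linear_combination h1

/-- **unipotent elements of order three with `PS 2` have rank one** -/
theorem rank_one (hC : Core3) (hL : LrU 3) (hF : Fintype.card F = 3 ^ 2) (hn : 3 ≤ n) {a : SU n F 3} (ha : a ^ 3 = 1)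
    (h1 : a ≠ 1) (hP : PS 2 (MulAut.conj (pr n F 3 a))) (hR : RN (MulAut.conj (pr n F 3 a))) :
    ∃ u, dl a u ≠ 0 ∧ ∀ y, ∃ c : F, dl a y = c • dl a u := by
  obtain ⟨A', hA', hA'm⟩ := exists_GU_of_isometry (M := mat a) hF (fun u v => herm_act a u v)
  have hA : gm (⟨A', hA'⟩ : GU n F 3) = mat a := hA'm
  have hxA : (toAut (⟨A', hA'⟩ : GU n F 3) 1 : MulAut (PSU n F 3)) = MulAut.conj (pr n F 3 a) :=
    f₁_eq_conj (⟨A', hA'⟩ : GU n F 3) a hA'm
  by_cases h2 : ∃ x0, dl a (dl a x0) ≠ 0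
  · exfalso
    obtain ⟨x0, hx0⟩ := h2
    exact no_J3 hL hF hn hA ha hx0 (hxA ▸ hP) (hxA ▸ hR)
  push Not at h2
  obtain ⟨u, hu⟩ : ∃ u, dl a u ≠ 0 := by
    by_contra hcon
    push Not at hcon
    exact h1 (ext_act fun v => by rw [act_eq, hcon, add_zero, act_one])
  by_cases h3 : ∃ u', ∀ c : F, dl a u' ≠ c • dl a u
  · exfalso
    obtain ⟨u', hu'⟩ := h3
    exact no_rank_two hC hF hn h2 hu hu' hP
  push Not at h3
  exact ⟨u, hu, h3⟩

/-- **elements of order three of `U_n(3)` with `PS 2` are transvections** -/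
theorem lrU_of_three (hC : Core3) (hL : LrU 3) (hn : 3 ≤ n) : LrU n := by
  intro F _ _ hF x hx hP hR
  have hx3 : x ^ 3 = 1 := orderOf_dvd_iff_pow_eq_one.1 (dvd_of_eq hx)
  obtain ⟨A, a, hA, hxA, hxa, -, ha3⟩ := exists_su hF hn (x := x) (by
    rw [show (9 : ℕ) = 3 * 3 by norm_num, pow_mul, hx3, one_pow])
  obtain ⟨u, -, h3⟩ := rank_one hC hL hF hn (ha3 hx3) (by
    rintro rfl
    rw [hxa, map_one, map_one, orderOf_one] at hx
    omega) (hxa ▸ hP) (hxa ▸ hR)
  obtain ⟨w, hw⟩ := mat_eq_of_rank_one h3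
  exact ⟨a, dl a u, w, hw, hxa⟩

theorem dl_three (hF : Fintype.card F = 3 ^ 2) (a : SU n F 3) (x : Fin n → F) :
    dl (a ^ 3) x = dl a (dl a (dl a x)) := by
  have h3 := three_eq hF
  have h4 : dl a (dl a (dl a x)) = act a (act a (act a x)) - (3 : F) • act a (act a x) + (3 : F) • act a x - x := by
    simp only [dl, act_sub]
    module
  rw [h4, h3, zero_smul, zero_smul, sub_zero, add_zero, dl, pow_succ, pow_two, act_mul, act_mul]

/-- **order nine** -/
theorem no_nine (hC : Core3) (hL : LrU 3) (hF : Fintype.card F = 3 ^ 2) (hn : 3 ≤ n) {x : MulAut (PSU n F 3)}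
    (hx : orderOf x = 9) (hP : PS 2 x) (hR : RN (x ^ 3)) : False := by
  have hx9 : x ^ 9 = 1 := orderOf_dvd_iff_pow_eq_one.1 (dvd_of_eq hx)
  obtain ⟨A, a, hA, hxA, hxa, ha9, -⟩ := exists_su hF hn hx9
  have e3 : x ^ 3 = MulAut.conj (pr n F 3 (a ^ 3)) := by rw [map_pow, map_pow, ← hxa]
  obtain ⟨u, hu, h3⟩ := rank_one hC hL hF hn (a := a ^ 3) (by rw [← pow_mul]; exact ha9) (by
    intro h
    have h1 : x ^ 3 = 1 := by rw [e3, h, map_one, map_one]
    have h2 := orderOf_dvd_of_pow_eq_one h1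
    rw [hx] at h2
    norm_num at h2) (e3 ▸ PS.pow hP 3) (e3 ▸ hR)
  obtain ⟨v, hv⟩ : ∃ v, v = dl (a ^ 3) u := ⟨_, rfl⟩
  rw [← hv] at hu h3
  obtain ⟨c, hc⟩ := h3 (dl a u)
  have h4 : dl a v = c • v := by rw [← hc, hv, dl_three hF, dl_three hF]
  have h5 : dl (a ^ 3) v = (c * c * c) • v := by
    rw [dl_three hF, h4, dl_smul, h4, dl_smul, dl_smul, h4, smul_smul, smul_smul]
  have h6 : dl (a ^ 3) (dl (a ^ 3) (dl (a ^ 3) u)) = 0 := dl_cube hF (by rw [← pow_mul]; exact ha9) u
  rw [← hv, h5, dl_smul, h5, smul_smul] at h6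
  have hc0 : c = 0 := by
    have h7 := (smul_eq_zero.1 h6).resolve_right hu
    have h8 : c ^ 6 = 0 := by linear_combination h7
    exact pow_eq_zero_iff (by norm_num) |>.1 h8
  rw [hc0, zero_smul] at h4
  rw [hv, dl_three hF] at h4 hu
  exact no_J4 hC hF hn h4 hu (hxa ▸ hP)

end Cfsg.Agent.H500.SN
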